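import Groth.Agent.Lib.FunFld.LinSys.Plane
import Mathlib.RingTheory.AlgebraicIndependent.TranscendenceBasis
import Mathlib.RingTheory.UniqueFactorizationDomain.Ideal
import Mathlib.RingTheory.Polynomial.UniqueFactorization

/-! The genus of a plane curve. -/

namespace Groth.Agent.Lib.FunFld.LinSys.PlaneGenus

open WithZero
open Groth.Agent.Lib.FunFld.Place Groth.Agent.Lib.FunFld.Degree
open Groth.Agent.Lib.FunFld.LinSys

universe u v
variable {k : Type u} {K : Type v} [Field k] [Field K] [Algebra k K]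

local notation "Pl" => _root_.FunFld.Place k K
local notation "Dv" => _root_.FunFld.Divisor k K

theorem exists_equation (hK : FunFld.IsFunctionField k K) (x y : K) :
    ∃ f : MvPolynomial (Fin 2) k, Irreducible f ∧ MvPolynomial.aeval ![x, y] f = 0 := by
  have hne : RingHom.ker (MvPolynomial.aeval (R := k) ![x, y]) ≠ ⊥ := by
    intro h
    have hinj : AlgebraicIndependent k ![x, y] :=
      (algebraicIndependent_iff_injective_aeval).mpr ((RingHom.injective_iff_ker_eq_bot _).mpr h)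
    have h1 := hinj.lift_cardinalMk_le_trdeg
    have h2 := Bound.trdeg_le_one hK
    simp only [Cardinal.mk_fintype, Fintype.card_fin, Nat.cast_ofNat, Cardinal.lift_ofNat,
      Cardinal.lift_id'] at h1
    have h3 : (2 : Cardinal) ≤ Cardinal.lift.{0} (Algebra.trdeg k K) := by simpa using h1
    rw [Cardinal.lift_uzero] at h3
    exact absurd (h3.trans h2) (by norm_num)
  have : (RingHom.ker (MvPolynomial.aeval (R := k) ![x, y])).IsPrime := RingHom.ker_isPrime _
  obtain ⟨f, hf, hfp⟩ := Ideal.IsPrime.exists_mem_prime_of_ne_bot this hne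
  exact ⟨f, hfp.irreducible, hf⟩

theorem adjoin_ratios_eq_top {x y : K} (hxy : IntermediateField.adjoin k ({x, y} : Set K) = ⊤)
    {j : Fin 3} (hj : ![(1 : K), x, y] j ≠ 0) :
    IntermediateField.adjoin k (Set.range fun i => ![(1 : K), x, y] i / ![(1 : K), x, y] j) = ⊤ := by
  rw [Chart.field_adjoin_eq ![(1 : K), x, y] hj (l := 0) (by simp), ← top_le_iff, ← hxy]
  refine IntermediateField.adjoin.mono _ _ _ ?_
  rintro z (rfl | rfl)
  exacts [⟨1, by simp⟩, ⟨2, by simp⟩]

theorem neg_ord_le (hK : FunFld.IsFunctionField k K) (x y : K) (P : Pl) (i : Fin 3) :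
    -(_root_.FunFld.mapDiv k ![(1 : K), x, y] P) ≤ P.ord (![(1 : K), x, y] i) := by
  rw [MapDiv.mapDiv_apply hK.1, neg_neg]
  exact Finset.inf'_le _ (Finset.mem_univ i)

theorem mapDiv_of_isMax (hK : FunFld.IsFunctionField k K) {x y : K} {j : Fin 3} {P : Pl}
    (hj : Chart.IsMax ![(1 : K), x, y] j P) :
    _root_.FunFld.mapDiv k ![(1 : K), x, y] P = -P.ord (![(1 : K), x, y] j) := by
  rw [MapDiv.mapDiv_apply hK.1]
  refine congrArg Neg.neg (le_antisymm (Finset.inf'_le _ (Finset.mem_univ j))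
    (Finset.le_inf' _ _ fun i _ => ?_))
  have h1 : 1 ≤ P.1 (![(1 : K), x, y] j) := by simpa using hj.2 0
  rw [val_eq_exp P hj.1, ← exp_zero, exp_le_exp] at h1
  rcases eq_or_ne (![(1 : K), x, y] i) 0 with h0 | h0
  · rw [h0, Plane.ord_zero]; omega
  · have := hj.2 i
    rwa [val_eq_exp P h0, val_eq_exp P hj.1, exp_le_exp, neg_le_neg_iff] at this

theorem isMax_of_eq_mapDiv (hK : FunFld.IsFunctionField k K) {x y : K} {j : Fin 3} {P : Pl}
    (h0 : ![(1 : K), x, y] j ≠ 0)
    (h : _root_.FunFld.mapDiv k ![(1 : K), x, y] P = -P.ord (![(1 : K), x, y] j)) :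
    Chart.IsMax ![(1 : K), x, y] j P := by
  refine ⟨h0, fun i => ?_⟩
  rcases eq_or_ne (![(1 : K), x, y] i) 0 with hi | hi
  · rw [hi, map_zero]; exact zero_le
  · have := neg_ord_le hK x y P i
    rw [val_eq_exp P hi, val_eq_exp P h0, exp_le_exp]
    omega

variable [IsAlgClosed k]

theorem finrank_sp_pow (hK : FunFld.IsFunctionField k K) (x y : K)
    (hxy : IntermediateField.adjoin k ({x, y} : Set K) = ⊤) :
    ∃ e : ℕ, (_root_.FunFld.mapDiv k ![(1 : K), x, y]).deg = e ∧ 1 ≤ e ∧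
      ∀ N : ℕ, e ≤ N + 1 →
        2 * (Module.finrank k ↥(Plane.sp k x y ^ N) : ℤ) + e * ((e : ℤ) - 1) =
          2 * e * ((N : ℤ) + 1) := by
  obtain ⟨f, hf, hfxy⟩ := exists_equation hK x y
  obtain ⟨c, hdeg, he, hli, hsp⟩ := Plane.exists_model hK x y hxy f hf hfxy
  exact ⟨f.totalDegree, hdeg, he, fun N hN => by rw [hsp N]; exact Plane.finrank_M hli hN⟩

theorem ell_smul (hK : FunFld.IsFunctionField k K) {D : Dv} {e N : ℕ} (hD : D.deg = e) (he : 1 ≤ e)
    (hN : 2 * _root_.FunFld.genus k K ≤ N) :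
    (_root_.FunFld.ell ((N : ℤ) • D) : ℤ) = (N : ℤ) * e + 1 - _root_.FunFld.genus k K := by
  have hdeg : ((N : ℤ) • D).deg = (N : ℤ) * e := by rw [deg_smul, hD]
  have h2 : (N : ℤ) * 1 ≤ (N : ℤ) * e :=
    mul_le_mul_of_nonneg_left (by exact_mod_cast he) (Int.natCast_nonneg N)
  rw [Weil.ell_eq_of_deg_ge hK (by rw [hdeg]; omega), hdeg]

/-- The genus bound. -/
theorem two_genus_le (hK : FunFld.IsFunctionField k K) (x y : K)
    (hxy : IntermediateField.adjoin k ({x, y} : Set K) = ⊤) :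
    2 * (_root_.FunFld.genus k K : ℤ) ≤ ((_root_.FunFld.mapDiv k ![(1 : K), x, y]).deg - 1) *
      ((_root_.FunFld.mapDiv k ![(1 : K), x, y]).deg - 2) := by
  obtain ⟨e, hdeg, he, hcount⟩ := finrank_sp_pow hK x y hxy
  set N := 2 * _root_.FunFld.genus k K + e
  have h1 := hcount N (by omega)
  have h2 := ell_smul hK hdeg he (N := N) (by omega)
  have := finiteDimensional_L hK ((N : ℤ) • _root_.FunFld.mapDiv k ![(1 : K), x, y])
  have h3 : (Module.finrank k ↥(Plane.sp k x y ^ N) : ℤ) ≤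
      _root_.FunFld.ell ((N : ℤ) • _root_.FunFld.mapDiv k ![(1 : K), x, y]) := by
    exact_mod_cast Submodule.finrank_mono (Plane.pow_sp_le_L hK x y N)
  rw [hdeg]
  nlinarith

/-- Equality makes the image projectively normal in large degree. -/
theorem sp_pow_eq_L (hK : FunFld.IsFunctionField k K) (x y : K)
    (hxy : IntermediateField.adjoin k ({x, y} : Set K) = ⊤)
    (h : 2 * (_root_.FunFld.genus k K : ℤ) = ((_root_.FunFld.mapDiv k ![(1 : K), x, y]).deg - 1) *
      ((_root_.FunFld.mapDiv k ![(1 : K), x, y]).deg - 2)) :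
    ∃ N₀ : ℕ, ∀ N, N₀ ≤ N → Plane.sp k x y ^ N =
      _root_.FunFld.L ((N : ℤ) • _root_.FunFld.mapDiv k ![(1 : K), x, y]) := by
  obtain ⟨e, hdeg, he, hcount⟩ := finrank_sp_pow hK x y hxy
  refine ⟨2 * _root_.FunFld.genus k K + e, fun N hN => ?_⟩
  have h1 := hcount N (by omega)
  have h2 := ell_smul hK hdeg he (N := N) (by omega)
  have := finiteDimensional_L hK ((N : ℤ) • _root_.FunFld.mapDiv k ![(1 : K), x, y])
  refine Submodule.eq_of_le_of_finrank_le (Plane.pow_sp_le_L hK x y N) ?_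
  rw [hdeg] at h
  change _root_.FunFld.ell ((N : ℤ) • _root_.FunFld.mapDiv k ![(1 : K), x, y]) ≤ _
  nlinarith

theorem isNonsingularAt_of_normal (hK : FunFld.IsFunctionField k K) (x y : K)
    (hxy : IntermediateField.adjoin k ({x, y} : Set K) = ⊤) {N₀ : ℕ}
    (h : ∀ N, N₀ ≤ N → Plane.sp k x y ^ N =
      _root_.FunFld.L ((N : ℤ) • _root_.FunFld.mapDiv k ![(1 : K), x, y])) (P : Pl) :
    _root_.FunFld.IsNonsingularAt ![(1 : K), x, y] P := by
  classical
  set φ := ![(1 : K), x, y] with hφ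
  set D := _root_.FunFld.mapDiv k φ with hD
  obtain ⟨j, hj⟩ := Chart.exists_isMax (φ := φ) P ⟨0, by simp [hφ]⟩
  refine Regular.nonsingular hK (adjoin_ratios_eq_top hxy hj.1) hj fun b hb => ?_
  rcases eq_or_ne b 0 with rfl | hb0
  · exact zero_mem _
  set S := (Degree.finite_support_ord hK b).toFinset
  set N := N₀ + ∑ Q ∈ S, (-Q.ord b).toNat
  have hmem : b * φ j ^ N ∈ Plane.sp k x y ^ N := by
    rw [h N (by omega)]
    refine Conductor.mem_L_iff_of_le.mpr (Or.inr fun Q => ?_)
    rw [ord_mul Q hb0 (pow_ne_zero _ hj.1), ord_pow, Finsupp.smul_apply, smul_eq_mul]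
    by_cases hQ : Chart.IsMax φ j Q
    · have h1 := (val_le_one_iff Q).mp (hb Q hQ)
      have h2 : D Q = -Q.ord (φ j) := mapDiv_of_isMax hK hQ
      rw [h2, mul_neg, neg_neg]; omega
    · have h2 : 1 ≤ D Q + Q.ord (φ j) := by
        by_contra hlt
        have h3 : -D Q ≤ Q.ord (φ j) := neg_ord_le hK x y Q j
        exact hQ (isMax_of_eq_mapDiv hK hj.1 (show D Q = -Q.ord (φ j) by omega))
      have h4 : (N : ℤ) * 1 ≤ (N : ℤ) * (D Q + Q.ord (φ j)) :=
        mul_le_mul_of_nonneg_left h2 (Int.natCast_nonneg _)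
      rw [mul_add] at h4
      have h5 : -Q.ord b ≤ (N : ℤ) := by
        rcases eq_or_ne (Q.ord b) 0 with h0 | h0
        · omega
        · have := Finset.single_le_sum (f := fun Q : Pl => (-Q.ord b).toNat)
            (fun _ _ => Nat.zero_le _) (show Q ∈ S from (Set.Finite.mem_toFinset _).mpr h0)
          omega
      omega
  have := Regular.div_pow_mem_ring (φ := φ) (j := j) hmem
  rwa [mul_div_assoc, div_self (pow_ne_zero _ hj.1), mul_one] at this

/-- For a nonsingular plane curve, adjoints of every degree are forms. -/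
theorem sp_pow_eq_L_of_nonsingular (hK : FunFld.IsFunctionField k K) (x y : K)
    (hxy : IntermediateField.adjoin k ({x, y} : Set K) = ⊤)
    (hns : ∀ P : Pl, _root_.FunFld.IsNonsingularAt ![(1 : K), x, y] P) (N : ℕ) :
    Plane.sp k x y ^ N = _root_.FunFld.L ((N : ℤ) • _root_.FunFld.mapDiv k ![(1 : K), x, y]) := by
  refine le_antisymm (Plane.pow_sp_le_L hK x y N) fun z hz => ?_
  set φ := ![(1 : K), x, y] with hφ
  set V := Plane.sp k x y with hV
  set D := _root_.FunFld.mapDiv k φ with hD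
  obtain ⟨f, hf, hfxy⟩ := exists_equation hK x y
  obtain ⟨c, hdeg, he, hli, hsp⟩ := Plane.exists_model hK x y hxy f hf hfxy
  have hgen : ∀ i, φ i ∈ V := fun i => Submodule.subset_span ⟨i, rfl⟩
  have hchart : ∀ j : Fin 3, ∃ m₀ : ℕ, ∀ m, m₀ ≤ m → z * φ j ^ m ∈ V ^ (N + m) := by
    intro j
    by_cases hj0 : φ j = 0
    · exact ⟨1, fun m hm => by rw [hj0, zero_pow (by omega), mul_zero]; exact zero_mem _⟩
    have hb : z / φ j ^ N ∈ Chart.ring k φ j := by
      refine Regular.mem_ring hK (adjoin_ratios_eq_top hxy hj0) hj0 (fun Q _ => hns Q) fun Q hQ => ?_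
      rcases eq_or_ne z 0 with rfl | hz0
      · simp
      have h1 := (Conductor.mem_L_iff_of_le.mp hz).resolve_left hz0 Q
      have h2 : D Q = -Q.ord (φ j) := mapDiv_of_isMax hK hQ
      rw [Finsupp.smul_apply, smul_eq_mul, h2, mul_neg, neg_neg] at h1
      rw [val_le_one_iff, ord_div Q hz0 (pow_ne_zero _ hj0), ord_pow]
      omega
    obtain ⟨m₀, hm₀⟩ := Regular.exists_mul_pow_mem hj0 hb
    refine ⟨m₀, fun m hm => ?_⟩
    obtain ⟨r, rfl⟩ := Nat.exists_eq_add_of_le hm
    rw [show z * φ j ^ (m₀ + r) = φ j ^ N * (z / φ j ^ N * φ j ^ m₀ * φ j ^ r) by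
      field_simp [pow_ne_zero N hj0]; ring]
    rw [pow_add V]
    exact Submodule.mul_mem_mul (Submodule.pow_mem_pow _ (hgen j) N)
      (by rw [pow_add]; exact Submodule.mul_mem_mul hm₀ (Submodule.pow_mem_pow _ (hgen j) r))
  choose m₀ hm₀ using hchart
  set m := ∑ j, m₀ j + 1
  have hle : ∀ j, m₀ j ≤ m := fun j => by
    have := Finset.single_le_sum (f := m₀) (fun _ _ => Nat.zero_le _) (Finset.mem_univ j); omega
  have h0 : z ∈ V ^ (N + m) := by simpa [hφ] using hm₀ 0 m (hle 0)
  set h := x + algebraMap k K c * y with hh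
  have hh2 : h ^ (m + m) * z ∈ V ^ (N + (m + m)) := by
    rw [hh, add_pow, Finset.sum_mul]
    refine Submodule.sum_mem _ fun a ha => ?_
    rw [Finset.mem_range] at ha
    have key : z * x ^ a * y ^ (m + m - a) ∈ V ^ (N + (m + m)) := by
      rcases le_or_gt m a with hma | hma
      · have h1 : z * x ^ a ∈ V ^ (N + a) := by
          simpa [hφ] using hm₀ 1 a ((hle 1).trans hma)
        have h2 := Submodule.mul_mem_mul h1 (Submodule.pow_mem_pow V (hgen 2) (m + m - a))
        rw [← pow_add, show N + a + (m + m - a) = N + (m + m) by omega] at h2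
        simpa [hφ] using h2
      · have h1 : z * y ^ (m + m - a) ∈ V ^ (N + (m + m - a)) := by
          simpa [hφ] using hm₀ 2 (m + m - a) ((hle 2).trans (by omega))
        have h2 := Submodule.mul_mem_mul h1 (Submodule.pow_mem_pow V (hgen 1) a)
        rw [← pow_add, show N + (m + m - a) + a = N + (m + m) by omega] at h2
        have e : φ 1 = x := by simp [hφ]
        rw [e] at h2
        rwa [show z * x ^ a * y ^ (m + m - a) = z * y ^ (m + m - a) * x ^ a by ring]
    have h3 := Submodule.smul_mem _ (((m + m).choose a : k) * c ^ (m + m - a)) key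
    rw [Algebra.smul_def, map_mul, map_pow, map_natCast] at h3
    convert h3 using 1
    ring
  rw [hsp] at h0 hh2 ⊢
  exact Plane.mem_of_mul_pow_mem hli h0 hh2

theorem two_genus_eq_iff (hK : FunFld.IsFunctionField k K) (x y : K)
    (hxy : IntermediateField.adjoin k ({x, y} : Set K) = ⊤) :
    2 * (_root_.FunFld.genus k K : ℤ) = ((_root_.FunFld.mapDiv k ![(1 : K), x, y]).deg - 1) *
      ((_root_.FunFld.mapDiv k ![(1 : K), x, y]).deg - 2) ↔
        ∀ P : Pl, _root_.FunFld.IsNonsingularAt ![(1 : K), x, y] P := by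
  constructor
  · intro h
    obtain ⟨N₀, hN₀⟩ := sp_pow_eq_L hK x y hxy h
    exact isNonsingularAt_of_normal hK x y hxy hN₀
  · intro hns
    obtain ⟨e, hdeg, he, hcount⟩ := finrank_sp_pow hK x y hxy
    set N := 2 * _root_.FunFld.genus k K + e
    have h1 := hcount N (by omega)
    have h2 := ell_smul hK hdeg he (N := N) (by omega)
    rw [_root_.FunFld.ell, ← sp_pow_eq_L_of_nonsingular hK x y hxy hns N] at h2
    rw [hdeg]
    nlinarith

end Groth.Agent.Lib.FunFld.LinSys.PlaneGenus
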