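import Groth.Agent.Lib.FunFld.LinSys.Nonsingular

/-! Separation of points and tangent vectors gives an embedding. -/

namespace Groth.Agent.Lib.FunFld.LinSys.VeryAmple

open WithZero
open Groth.Agent.Lib.FunFld.Place Groth.Agent.Lib.FunFld.Degree
open Groth.Agent.Lib.FunFld.LinSys

universe u v w
variable {k : Type u} {K : Type v} [Field k] [IsAlgClosed k] [Field K] [Algebra k K]
  {ι : Type w} [Fintype ι] [Nonempty ι] {φ : ι → K}

local notation "Pl" => _root_.FunFld.Place k K
local notation "Dv" => _root_.FunFld.Divisor k K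

variable (k) in
/-- The linear series of `φ` separates points and tangent vectors. -/
def Separates (φ : ι → K) : Prop :=
  ∀ P Q : Pl, Module.finrank k ↥(Submodule.span k (Set.range φ) ⊓
    _root_.FunFld.L (_root_.FunFld.mapDiv k φ - Finsupp.single P 1 - Finsupp.single Q 1)) + 2 =
      Module.finrank k ↥(Submodule.span k (Set.range φ))

omit [IsAlgClosed k] in
theorem span_le_L (hK : FunFld.IsFunctionField k K) :
    Submodule.span k (Set.range φ) ≤ _root_.FunFld.L (_root_.FunFld.mapDiv k φ) := by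
  rw [Submodule.span_le]
  rintro _ ⟨i, rfl⟩
  refine Conductor.mem_L_iff_of_le.mpr (Or.inr fun P => ?_)
  rw [MapDiv.mapDiv_apply hK.1, neg_neg]
  exact Finset.inf'_le _ (Finset.mem_univ i)

omit [IsAlgClosed k] in
theorem mapDiv_eq_of_isMax (hK : FunFld.IsFunctionField k K) (hne : ∀ i, φ i ≠ 0) {j : ι} {P : Pl}
    (hj : Chart.IsMax φ j P) : _root_.FunFld.mapDiv k φ P = -P.ord (φ j) := by
  rw [MapDiv.mapDiv_apply hK.1]
  refine congrArg Neg.neg (le_antisymm (Finset.inf'_le _ (Finset.mem_univ j))
    (Finset.le_inf' _ _ fun i _ => ?_))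
  have := hj.2 i
  rwa [val_eq_exp P (hne i), val_eq_exp P hj.1, exp_le_exp, neg_le_neg_iff] at this

theorem exists_exact_pair (hK : FunFld.IsFunctionField k K) {P Q : Pl}
    (h : Module.finrank k ↥(Submodule.span k (Set.range φ) ⊓
      _root_.FunFld.L (_root_.FunFld.mapDiv k φ - Finsupp.single P 1 - Finsupp.single Q 1)) + 2 =
        Module.finrank k ↥(Submodule.span k (Set.range φ))) :
    ∃ f ∈ Submodule.span k (Set.range φ),
      f ∈ _root_.FunFld.L (_root_.FunFld.mapDiv k φ - Finsupp.single P 1) ∧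
      f ∉ _root_.FunFld.L (_root_.FunFld.mapDiv k φ - Finsupp.single P 1 - Finsupp.single Q 1) := by
  set V := Submodule.span k (Set.range φ)
  set D := _root_.FunFld.mapDiv k φ
  by_contra hcon
  simp only [not_exists, not_and, not_not] at hcon
  have := finiteDimensional_L hK (D - Finsupp.single P 1 - Finsupp.single Q 1)
  have hV : FiniteDimensional k ↥V := FiniteDimensional.span_of_finite k (Set.finite_range φ)
  have : FiniteDimensional k ↥(V ⊓ _root_.FunFld.L (D - Finsupp.single P 1 - Finsupp.single Q 1)) :=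
    Submodule.finiteDimensional_of_le inf_le_left
  have h1 := Submodule.finrank_mono (R := k) (s := V ⊓ _root_.FunFld.L (D - Finsupp.single P 1))
    (t := V ⊓ _root_.FunFld.L (D - Finsupp.single P 1 - Finsupp.single Q 1))
    fun f hf => ⟨hf.1, hcon f hf.1 hf.2⟩
  have h2 := LinSer.Basic.finrank_inf_step hK V (D - Finsupp.single P 1) P
  rw [sub_add_cancel, inf_eq_left.mpr (show V ≤ _root_.FunFld.L D from span_le_L hK)] at h2
  change Module.finrank k ↥(V ⊓ _root_.FunFld.L (D - Finsupp.single P 1 - Finsupp.single Q 1)) + 2 =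
    Module.finrank k ↥V at h
  omega

omit [Fintype ι] [Nonempty ι] [IsAlgClosed k] in
theorem ord_eq_of_not_mem {D : Dv} {f : K} {Q : Pl} (h : f ∈ _root_.FunFld.L D)
    (h' : f ∉ _root_.FunFld.L (D - Finsupp.single Q 1)) : f ≠ 0 ∧ Q.ord f = -D Q := by
  have hf0 : f ≠ 0 := fun h0 => h' (h0 ▸ zero_mem _)
  refine ⟨hf0, ?_⟩
  by_contra hne
  have h1 := (Conductor.mem_L_iff_of_le.mp h).resolve_left hf0
  refine h' (Conductor.mem_L_iff_of_le.mpr (Or.inr fun R => ?_))
  have := h1 R
  rcases eq_or_ne R Q with rfl | hR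
  · simp only [Finsupp.sub_apply, Finsupp.single_eq_same]; omega
  · simpa [Finsupp.single_eq_of_ne hR] using this

theorem fiber_and_uniformizer (hK : FunFld.IsFunctionField k K) (hne : ∀ i, φ i ≠ 0)
    {j : ι} {P : Pl} (hj : Chart.IsMax φ j P)
    (h : ∀ Q : Pl, Module.finrank k ↥(Submodule.span k (Set.range φ) ⊓
      _root_.FunFld.L (_root_.FunFld.mapDiv k φ - Finsupp.single P 1 - Finsupp.single Q 1)) + 2 =
        Module.finrank k ↥(Submodule.span k (Set.range φ))) :
    (∀ Q : Pl, _root_.FunFld.SameImage φ P Q → Q = P) ∧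
      ∃ t, _root_.FunFld.InLocRing φ P t ∧ P.1 t = exp (-1) := by
  set D := _root_.FunFld.mapDiv k φ with hD
  have hmem : ∀ f ∈ Submodule.span k (Set.range φ), f / φ j ∈ Chart.ring k φ j := by
    intro f hf
    induction hf using Submodule.span_induction with
    | mem x hx => obtain ⟨i, rfl⟩ := hx; exact Chart.ratio_mem φ i j
    | zero => simp
    | add x y _ _ hx hy => rw [add_div]; exact add_mem hx hy
    | smul c x _ hx => rw [smul_div_assoc]; exact Subalgebra.smul_mem _ hx c
  refine ⟨fun Q hQ => ?_, ?_⟩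
  · by_contra hQP
    obtain ⟨f, hf, hf1, hf2⟩ := exists_exact_pair hK (h Q)
    obtain ⟨hf0, hfQ⟩ := ord_eq_of_not_mem hf1 hf2
    have hjQ : Chart.IsMax φ j Q := (Chart.isMax_iff hj.1).mpr fun i =>
      (Chart.locRing_of_sameImage hQ (Chart.locRing_of_mem hj (Chart.ratio_mem φ i j))).1
    have hiff := (Chart.locRing_of_sameImage hQ (Chart.locRing_of_mem hj (hmem f hf))).2
    have hP := (Conductor.mem_L_iff_of_le.mp hf1).resolve_left hf0 P
    rw [Finsupp.sub_apply, Finsupp.single_eq_same, mapDiv_eq_of_isMax hK hne hj] at hP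
    rw [Finsupp.sub_apply, Finsupp.single_eq_of_ne hQP, mapDiv_eq_of_isMax hK hne hjQ] at hfQ
    have hlt : P.1 (f / φ j) < 1 := by
      rw [val_eq_exp P (div_ne_zero hf0 hj.1), ord_div P hf0 hj.1, ← exp_zero, exp_lt_exp]
      omega
    have := hiff.mpr hlt
    rw [val_eq_exp Q (div_ne_zero hf0 hj.1), ord_div Q hf0 hj.1, ← exp_zero, exp_lt_exp] at this
    omega
  · obtain ⟨f, hf, hf1, hf2⟩ := exists_exact_pair hK (h P)
    obtain ⟨hf0, hfP⟩ := ord_eq_of_not_mem hf1 hf2
    rw [Finsupp.sub_apply, Finsupp.single_eq_same, mapDiv_eq_of_isMax hK hne hj] at hfP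
    refine ⟨f / φ j, Chart.locRing_of_mem hj (hmem f hf), ?_⟩
    rw [val_eq_exp P (div_ne_zero hf0 hj.1), ord_div P hf0 hj.1, exp_inj]
    omega

omit [Fintype ι] [Nonempty ι] [IsAlgClosed k] in
theorem finrank_of_poleDiv (hK : FunFld.IsFunctionField k K) {x : K} {E : Dv} (hE : 0 ≤ E)
    (hdeg : 0 < E.deg) (h1 : ∀ R, E R ≠ 0 → R.ord x = -E R) (h2 : ∀ R, E R = 0 → 0 ≤ R.ord x) :
    E.deg = Module.finrank (IntermediateField.adjoin k ({x} : Set K)) K := by
  have hp : poleDiv (k := k) x = E := by
    ext R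
    rw [poleDiv_apply hK]
    have := Finsupp.le_def.mp hE R
    simp only [Finsupp.coe_zero, Pi.zero_apply] at this
    by_cases he : E R = 0
    · have := h2 R he; omega
    · have := h1 R he; omega
  have hx : Transcendental k x := by
    obtain ⟨R, hR⟩ : ∃ R, E R ≠ 0 := by
      by_contra hc
      simp only [not_exists, not_not] at hc
      rw [show E = 0 from Finsupp.ext hc] at hdeg
      simp at hdeg
    exact Existence.transcendental_of_ord_ne_zero hK R (by rw [h1 R hR]; omega)
  rw [← hp, deg_poleDiv hK hx]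

theorem birational (hK : FunFld.IsFunctionField k K) (hne : ∀ i, φ i ≠ 0) (h : Separates k φ)
    (l : ι) : IntermediateField.adjoin k (Set.range fun i => φ i / φ l) = ⊤ := by
  classical
  set V := Submodule.span k (Set.range φ) with hV
  set D := _root_.FunFld.mapDiv k φ with hD
  set E := D + _root_.FunFld.div k (φ l) with hEdef
  have hlV : φ l ∈ V := Submodule.subset_span ⟨l, rfl⟩
  have hE : 0 ≤ E := ((mem_L_iff_div hK).mp (span_le_L hK hlV)).resolve_left (hne l) |>.trans_eq
    (by rw [hEdef, add_comm])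
  have hEapp : ∀ R, E R = D R + R.ord (φ l) := fun R => by
    rw [hEdef, Finsupp.add_apply, div_apply hK]
  set F := IntermediateField.adjoin k (Set.range fun i => φ i / φ l)
  have hFmem : ∀ f ∈ V, f / φ l ∈ F := by
    intro f hf
    induction hf using Submodule.span_induction with
    | mem x hx => obtain ⟨i, rfl⟩ := hx; exact IntermediateField.subset_adjoin k _ ⟨i, rfl⟩
    | zero => simp
    | add x y _ _ hx hy => rw [add_div]; exact add_mem hx hy
    | smul c x _ hx => rw [smul_div_assoc]; exact IntermediateField.smul_mem _ hx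
  -- a member with exact pole divisor `E`
  obtain ⟨P₁, hP₁⟩ : ∃ P, E P ≠ 0 := by
    by_contra hc
    simp only [not_exists, not_not] at hc
    obtain ⟨P⟩ := Riemann.nonempty_place hK
    have h1 := h P P
    have hE0 : E = 0 := Finsupp.ext hc
    have h2 := Riemann.ell_add_div hK D (hne l)
    rw [← hEdef, hE0, ell_zero hK] at h2
    have := finiteDimensional_L hK D
    have h3 : Module.finrank k ↥V ≤ Module.finrank k ↥(_root_.FunFld.L D) :=
      Submodule.finrank_mono (span_le_L hK)
    unfold _root_.FunFld.ell at h2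
    change Module.finrank k ↥(V ⊓ _root_.FunFld.L (D - Finsupp.single P 1 - Finsupp.single P 1)) + 2 =
      Module.finrank k ↥V at h1
    omega
  obtain ⟨f, hf, hfe⟩ := Conductor.exists_exact (span_le_L hK) E.support fun P _ => by
    obtain ⟨g, hg, hg1, hg2⟩ := exists_exact_pair hK (h P P)
    by_contra hcon
    simp only [not_exists, not_and, not_not] at hcon
    have := finiteDimensional_L hK (D - Finsupp.single P 1)
    have hle := Submodule.finrank_mono (R := k) (s := V)
      (t := V ⊓ _root_.FunFld.L (D - Finsupp.single P 1)) (fun x hx => ⟨hx, hcon x hx⟩)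
    have hle' : Module.finrank k ↥(V ⊓ _root_.FunFld.L (D - Finsupp.single P 1)) ≤
        Module.finrank k ↥(V ⊓ _root_.FunFld.L (D - Finsupp.single P 1 - Finsupp.single P 1)) + 1 := by
      have := LinSer.Basic.finrank_inf_step hK V (D - Finsupp.single P 1 - Finsupp.single P 1) P
      rwa [sub_add_cancel] at this
    have := h P P
    change Module.finrank k ↥(V ⊓ _root_.FunFld.L (D - Finsupp.single P 1 - Finsupp.single P 1)) + 2 =
      Module.finrank k ↥V at this
    omega
  have hP₁' : P₁ ∈ E.support := Finsupp.mem_support_iff.mpr hP₁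
  have hf0 : f ≠ 0 := (hfe P₁ hP₁').1
  have hdeg : ∀ {x : K} {E' : Dv}, x ∈ F → 0 ≤ E' → 0 < E'.deg →
      (∀ R, E' R ≠ 0 → R.ord x = -E' R) → (∀ R, E' R = 0 → 0 ≤ R.ord x) →
      (Module.finrank F K : ℤ) ∣ E'.deg := fun hx hE' hd h1 h2 => by
    rw [finrank_of_poleDiv hK hE' hd h1 h2, Int.natCast_dvd_natCast]
    exact IntermediateField.finrank_dvd_of_le_left
      (IntermediateField.adjoin_le_iff.mpr (Set.singleton_subset_iff.mpr hx))
  have hEd : 1 ≤ E.deg := by
    have h1 : Finsupp.single P₁ (1 : ℤ) ≤ E := Finsupp.le_def.mpr fun R => by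
      have hR0 := Finsupp.le_def.mp hE R
      rcases eq_or_ne R P₁ with rfl | hR
      · simp only [Finsupp.coe_zero, Pi.zero_apply] at hR0 hP₁
        rw [Finsupp.single_eq_same]; omega
      · rw [Finsupp.single_eq_of_ne hR]; exact hR0
    have h2 := deg_mono h1
    rwa [deg_single, Rational.deg_eq_one hK, Nat.cast_one, mul_one] at h2
  have d1 : (Module.finrank F K : ℤ) ∣ E.deg := by
    refine hdeg (hFmem f hf) hE (by omega) (fun R hR => ?_) fun R hR => ?_
    · rw [ord_div R hf0 (hne l), (hfe R (Finsupp.mem_support_iff.mpr hR)).2, hEapp]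
      ring
    · have h3 := (Conductor.mem_L_iff_of_le.mp (span_le_L hK hf)).resolve_left hf0 R
      change -D R ≤ R.ord f at h3
      rw [ord_div R hf0 (hne l)]
      rw [hEapp] at hR
      omega
  have hone : (Module.finrank F K : ℤ) ∣ 1 := by
    rcases eq_or_lt_of_le hEd with he | he
    · rwa [← he] at d1
    set E' := E - Finsupp.single P₁ (1 : ℤ) with hE'def
    have hE'd : E'.deg = E.deg - 1 := by
      rw [hE'def, deg_sub, deg_single, Rational.deg_eq_one hK, Nat.cast_one, mul_one]
    have hE' : 0 ≤ E' := Finsupp.le_def.mpr fun R => by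
      have hR0 := Finsupp.le_def.mp hE R
      simp only [Finsupp.coe_zero, Pi.zero_apply, hE'def, Finsupp.sub_apply] at hR0 ⊢
      rcases eq_or_ne R P₁ with rfl | hR
      · rw [Finsupp.single_eq_same]; omega
      · rw [Finsupp.single_eq_of_ne hR]; omega
    obtain ⟨g, hg, hge⟩ := Conductor.exists_exact (V := V ⊓ _root_.FunFld.L (D - Finsupp.single P₁ 1))
      inf_le_right E.support fun P _ => by
        obtain ⟨g, hg, hg1, hg2⟩ := exists_exact_pair hK (h P₁ P)
        exact ⟨g, ⟨hg, hg1⟩, hg2⟩
    have hg0 : g ≠ 0 := (hge P₁ hP₁').1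
    have d2 : (Module.finrank F K : ℤ) ∣ E'.deg := by
      have hord : ∀ R, -E' R ≤ R.ord (g / φ l) := fun R => by
        have h3 := (Conductor.mem_L_iff_of_le.mp hg.2).resolve_left hg0 R
        rw [ord_div R hg0 (hne l)]
        simp only [hE'def, Finsupp.sub_apply, hEapp] at h3 ⊢
        omega
      refine hdeg (hFmem g hg.1) hE' (by omega) (fun R hR => ?_) fun R hR => ?_
      · have hRs : R ∈ E.support := Finsupp.mem_support_iff.mpr fun h0 => hR (by
          have hR' := Finsupp.le_def.mp hE' R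
          simp only [Finsupp.coe_zero, Pi.zero_apply, hE'def, Finsupp.sub_apply, h0] at hR' ⊢
          rcases eq_or_ne R P₁ with rfl | hR1
          · exact absurd h0 hP₁
          · rw [Finsupp.single_eq_of_ne hR1]; rfl)
        rw [ord_div R hg0 (hne l), (hge R hRs).2]
        simp only [hE'def, Finsupp.sub_apply, hEapp]
        ring
      · have := hord R
        omega
    have := dvd_sub d1 d2
    rwa [hE'd, sub_sub_cancel] at this
  have h1 : Module.finrank F K = 1 := Nat.dvd_one.mp (by exact_mod_cast hone)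
  exact IntermediateField.finrank_eq_one_iff_eq_top.mp h1

theorem isNonsingularAt (hK : FunFld.IsFunctionField k K) (hne : ∀ i, φ i ≠ 0)
    (h : Separates k φ) (P : Pl) : _root_.FunFld.IsNonsingularAt φ P := by
  obtain ⟨j, hj⟩ := Chart.exists_isMax P ⟨Classical.arbitrary ι, hne _⟩
  obtain ⟨hfib, t, ht, ht1⟩ := fiber_and_uniformizer hK hne hj (h P)
  exact Nonsingular.of_uniformizer hK hj (birational hK hne h j) hfib ht ht1

/-- A space `L(D)` with the expected drops gives an embedding. -/
theorem mapDiv_eq (hK : FunFld.IsFunctionField k K) (hne : ∀ i, φ i ≠ 0) {D : Dv}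
    (hspan : Submodule.span k (Set.range φ) = _root_.FunFld.L D)
    (hbpf : ∀ P : Pl, _root_.FunFld.L (D - Finsupp.single P 1) ≠ _root_.FunFld.L D) :
    _root_.FunFld.mapDiv k φ = D := by
  ext P
  obtain ⟨j, hj⟩ := Chart.exists_isMax P ⟨Classical.arbitrary ι, hne _⟩
  have hjL : φ j ∈ _root_.FunFld.L D := hspan ▸ Submodule.subset_span ⟨j, rfl⟩
  have h1 := (Conductor.mem_L_iff_of_le.mp hjL).resolve_left (hne j) P
  rw [mapDiv_eq_of_isMax hK hne hj]
  by_contra hlt
  refine hbpf P (le_antisymm (L_mono (sub_le_self _ (Finsupp.single_nonneg.mpr zero_le_one))) ?_)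
  intro f hf
  rcases eq_or_ne f 0 with rfl | hf0
  · exact zero_mem _
  have hf' := (Conductor.mem_L_iff_of_le.mp hf).resolve_left hf0
  refine Conductor.mem_L_iff_of_le.mpr (Or.inr fun R => ?_)
  have := hf' R
  rcases eq_or_ne R P with rfl | hR
  · have h4 : f ∈ Submodule.span k (Set.range φ) := hspan ▸ hf
    have h5 := (Conductor.mem_L_iff_of_le.mp (span_le_L hK h4)).resolve_left hf0 R
    change -(_root_.FunFld.mapDiv k φ R) ≤ R.ord f at h5
    rw [mapDiv_eq_of_isMax hK hne hj] at h5
    simp only [Finsupp.sub_apply, Finsupp.single_eq_same]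
    omega
  · simpa [Finsupp.single_eq_of_ne hR] using this

theorem isNonsingularAt_of_ell (hK : FunFld.IsFunctionField k K) (hne : ∀ i, φ i ≠ 0) {D : Dv}
    (hspan : Submodule.span k (Set.range φ) = _root_.FunFld.L D)
    (h : ∀ P Q : Pl, _root_.FunFld.ell (D - Finsupp.single P 1 - Finsupp.single Q 1) + 2 =
      _root_.FunFld.ell D) (P : Pl) : _root_.FunFld.IsNonsingularAt φ P := by
  have hD : _root_.FunFld.mapDiv k φ = D := mapDiv_eq hK hne hspan fun R heq => by
    have h1 := h R R
    have := finiteDimensional_L hK (D - Finsupp.single R 1)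
    have h2 := LinSer.Basic.finrank_inf_step hK (_root_.FunFld.L (D - Finsupp.single R 1))
      (D - Finsupp.single R 1 - Finsupp.single R 1) R
    rw [sub_add_cancel, inf_idem, inf_eq_right.mpr (L_mono (sub_le_self _
      (Finsupp.single_nonneg.mpr zero_le_one)))] at h2
    unfold _root_.FunFld.ell at h1
    rw [← heq] at h1
    omega
  refine isNonsingularAt hK hne (fun A B => ?_) P
  rw [hD, hspan, inf_eq_right.mpr (L_mono ((sub_le_self _
    (Finsupp.single_nonneg.mpr zero_le_one)).trans (sub_le_self _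
      (Finsupp.single_nonneg.mpr zero_le_one))))]
  exact h A B

omit [Fintype ι] [Nonempty ι] [IsAlgClosed k] in
theorem no_uniformizer {j : ι} {P : Pl} (hj : Chart.IsMax φ j P)
    (h : ∀ i, ∃ c : k, P.1 (φ i / φ j - algebraMap k K c) ≤ exp (-2)) {t : K}
    (ht : _root_.FunFld.InLocRing φ P t) : P.1 t ≠ exp (-1) := by
  have key : ∀ a ∈ Chart.ring k φ j, ∃ c : k, P.1 (a - algebraMap k K c) ≤ exp (-2) := by
    intro a ha
    induction ha using Algebra.adjoin_induction with
    | mem x hx => obtain ⟨i, rfl⟩ := hx; exact h i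
    | algebraMap c => exact ⟨c, by simp⟩
    | add x y _ _ h1 h2 =>
      obtain ⟨c, hc⟩ := h1
      obtain ⟨d, hd⟩ := h2
      exact ⟨c + d, by rw [map_add, add_sub_add_comm]; exact P.1.map_add_le hc hd⟩
    | mul x y hx hy h1 h2 =>
      obtain ⟨c, hc⟩ := h1
      obtain ⟨d, hd⟩ := h2
      refine ⟨c * d, ?_⟩
      rw [show x * y - algebraMap k K (c * d) =
        (x - algebraMap k K c) * y + algebraMap k K c * (y - algebraMap k K d) by rw [map_mul]; ring]
      refine P.1.map_add_le ?_ ?_ <;> rw [map_mul]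
      · exact (mul_le_of_le_one_right' (Chart.val_le_one_of_mem hj hy)).trans hc
      · exact (mul_le_of_le_one_left' (val_algebraMap_le P c)).trans hd
  intro ht1
  obtain ⟨u, hu, w, -, hw1, htw⟩ := (Chart.mem_locRing_iff hj t).mp ht
  obtain ⟨c, hc⟩ := key u hu
  have hu1 : P.1 u = exp (-1) := by rw [← htw, map_mul, hw1, mul_one, ht1]
  have hlt : exp (-2 : ℤ) < (1 : WithZero (Multiplicative ℤ)) := by
    rw [← exp_zero, exp_lt_exp]; norm_num
  have hc0 : c = 0 := by
    by_contra hne
    rw [(Chart.val_eq_one_iff_const P (hc.trans_lt hlt)).mpr hne, ← exp_zero, exp_inj] at hu1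
    omega
  rw [hc0, map_zero, sub_zero, hu1, exp_le_exp] at hc
  omega

/-- An embedding separates points and tangent vectors. -/
theorem separates_of_isNonsingularAt (hK : FunFld.IsFunctionField k K) (hne : ∀ i, φ i ≠ 0) {P : Pl}
    (h : _root_.FunFld.IsNonsingularAt φ P) (Q : Pl) :
    Module.finrank k ↥(Submodule.span k (Set.range φ) ⊓
      _root_.FunFld.L (_root_.FunFld.mapDiv k φ - Finsupp.single P 1 - Finsupp.single Q 1)) + 2 =
        Module.finrank k ↥(Submodule.span k (Set.range φ)) := by
  classical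
  obtain ⟨j, hj⟩ := Chart.exists_isMax P ⟨Classical.arbitrary ι, hne _⟩
  set V := Submodule.span k (Set.range φ) with hV
  set D := _root_.FunFld.mapDiv k φ with hD
  have hVD : V ≤ _root_.FunFld.L D := span_le_L hK
  have : FiniteDimensional k ↥V := FiniteDimensional.span_of_finite k (Set.finite_range φ)
  have := finiteDimensional_L hK (D - Finsupp.single P 1)
  have := finiteDimensional_L hK (D - Finsupp.single P 1 - Finsupp.single Q 1)
  have h2 := LinSer.Basic.finrank_inf_step hK V (D - Finsupp.single P 1) P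
  rw [sub_add_cancel, inf_eq_left.mpr hVD] at h2
  have h3 := LinSer.Basic.finrank_inf_step hK V (D - Finsupp.single P 1 - Finsupp.single Q 1) Q
  rw [sub_add_cancel] at h3
  have hjV : φ j ∈ V := Submodule.subset_span ⟨j, rfl⟩
  have hlt1 : V ⊓ _root_.FunFld.L (D - Finsupp.single P 1) < V :=
    lt_of_le_of_ne inf_le_left fun heq => by
      have hm : φ j ∈ _root_.FunFld.L (D - Finsupp.single P 1) := (heq.symm.le hjV).2
      have h4 := (Conductor.mem_L_iff_of_le.mp hm).resolve_left (hne j) P
      rw [Finsupp.sub_apply, Finsupp.single_eq_same, hD, mapDiv_eq_of_isMax hK hne hj] at h4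
      omega
  have hlt2 : V ⊓ _root_.FunFld.L (D - Finsupp.single P 1 - Finsupp.single Q 1) <
      V ⊓ _root_.FunFld.L (D - Finsupp.single P 1) := by
    refine lt_of_le_of_ne (inf_le_inf_left _ (L_mono (sub_le_self _
      (Finsupp.single_nonneg.mpr zero_le_one)))) fun heq => ?_
    have hmem : ∀ (i : ι) (c : k), P.1 (φ i / φ j - algebraMap k K c) < 1 →
        φ i - c • φ j ∈ _root_.FunFld.L (D - Finsupp.single P 1 - Finsupp.single Q 1) := by
      intro i c hc
      have hv : φ i - c • φ j ∈ V := sub_mem (Submodule.subset_span ⟨i, rfl⟩) (V.smul_mem c hjV)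
      refine (heq.symm.le ⟨hv, ?_⟩).2
      rcases eq_or_ne (φ i - c • φ j) 0 with h0 | h0
      · rw [h0]; exact zero_mem _
      refine Conductor.mem_L_iff_of_le.mpr (Or.inr fun R => ?_)
      have h5 := (Conductor.mem_L_iff_of_le.mp (hVD hv)).resolve_left h0 R
      rcases eq_or_ne R P with rfl | hR
      · have e : φ i / φ j - algebraMap k K c = (φ i - c • φ j) / φ j := by
          rw [sub_div, Algebra.smul_def, mul_div_assoc, div_self hj.1, mul_one]
        rw [e, val_eq_exp R (div_ne_zero h0 hj.1), ord_div R h0 hj.1, ← exp_zero, exp_lt_exp] at hc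
        rw [Finsupp.sub_apply, Finsupp.single_eq_same, hD, mapDiv_eq_of_isMax hK hne hj]
        omega
      · simpa [Finsupp.single_eq_of_ne hR] using h5
    rcases eq_or_ne Q P with rfl | hQP
    · obtain ⟨t, ht⟩ := exists_val_eq_exp Q (-1)
      refine no_uniformizer hj (fun i => ?_) (h t (by rw [ht, ← exp_zero, exp_le_exp]; norm_num)) ht
      obtain ⟨c, hc⟩ := Chart.exists_const hK Q (Chart.val_ratio_le hj i)
      refine ⟨c, ?_⟩
      rw [show φ i / φ j - algebraMap k K c = (φ i - c • φ j) / φ j by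
        rw [sub_div, Algebra.smul_def, mul_div_assoc, div_self hj.1, mul_one], val_le_exp_iff]
      rcases eq_or_ne (φ i - c • φ j) 0 with h0 | h0
      · exact Or.inl (by rw [h0, zero_div])
      · have h6 := (Conductor.mem_L_iff_of_le.mp (hmem i c hc)).resolve_left h0 Q
        simp only [Finsupp.sub_apply, Finsupp.single_eq_same, hD, mapDiv_eq_of_isMax hK hne hj] at h6
        exact Or.inr (by rw [ord_div Q h0 hj.1]; omega)
    · choose c hc using fun i => Chart.exists_const hK P (Chart.val_ratio_le hj i)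
      obtain ⟨l, hl⟩ := Chart.exists_isMax Q ⟨Classical.arbitrary ι, hne _⟩
      have hval : ∀ i, Q.1 (φ i - c i • φ j) < Q.1 (φ l) := fun i => by
        rcases eq_or_ne (φ i - c i • φ j) 0 with h0 | h0
        · rw [h0, map_zero]; exact Chart.val_pos Q hl.1
        have h6 := (Conductor.mem_L_iff_of_le.mp (hmem i (c i) (hc i))).resolve_left h0 Q
        rw [Finsupp.sub_apply, Finsupp.single_eq_same, Finsupp.sub_apply,
          Finsupp.single_eq_of_ne hQP, hD, mapDiv_eq_of_isMax hK hne hl] at h6
        rw [val_eq_exp Q h0, val_eq_exp Q hl.1, exp_lt_exp]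
        omega
      have hjQ : Chart.IsMax φ j Q := by
        refine ⟨hj.1, fun i => (hl.2 i).trans (not_lt.mp fun hlt => ?_)⟩
        have h7 : Q.1 (c l • φ j) < Q.1 (φ l) := by
          rw [Algebra.smul_def, map_mul]
          exact (mul_le_of_le_one_left' (val_algebraMap_le Q (c l))).trans_lt hlt
        have h8 := Q.1.map_add_lt (hval l) h7
        rw [sub_add_cancel] at h8
        exact lt_irrefl _ h8
      have hle : Q.1 (φ l) = Q.1 (φ j) := le_antisymm (hjQ.2 l) (hl.2 j)
      have hsame : _root_.FunFld.SameImage φ P Q := ⟨j, hj.1, hj.2, hjQ.2, fun i => ⟨c i, hc i, by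
        rw [show φ i / φ j - algebraMap k K (c i) = (φ i - c i • φ j) / φ j by
          rw [sub_div, Algebra.smul_def, mul_div_assoc, div_self hj.1, mul_one], map_div₀,
          div_lt_one₀ (Chart.val_pos Q hj.1), ← hle]
        exact hval i⟩⟩
      exact hQP (place_eq_of_O_le (P := P) (Q := Q) fun z hz =>
        (Chart.locRing_of_sameImage hsame (h z hz)).1).symm
  have a1 := Submodule.finrank_lt_finrank_of_lt hlt1
  have : FiniteDimensional k ↥(V ⊓ _root_.FunFld.L (D - Finsupp.single P 1)) :=
    Submodule.finiteDimensional_of_le inf_le_left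
  have a2 := Submodule.finrank_lt_finrank_of_lt hlt2
  omega

end Groth.Agent.Lib.FunFld.LinSys.VeryAmple
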