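import Groth.Agent.Lib.FunFld.MapDiv
import Groth.Agent.Lib.FunFld.Rational

/-! Affine charts of the map given by a tuple of functions. -/

namespace Groth.Agent.Lib.FunFld.LinSys.Chart

open WithZero IntermediateField
open Groth.Agent.Lib.FunFld.Place

universe u v w
variable {k : Type u} {K : Type v} [Field k] [Field K] [Algebra k K] {ι : Type w} {φ : ι → K}

local notation "Pl" => _root_.FunFld.Place k K

/-- `φ j` has least order at `P`. -/
def IsMax (φ : ι → K) (j : ι) (P : Pl) : Prop := φ j ≠ 0 ∧ ∀ i, P.1 (φ i) ≤ P.1 (φ j)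

/-- The coordinate ring of the `j`-th chart. -/
def ring (k : Type u) [Field k] [Algebra k K] (φ : ι → K) (j : ι) : Subalgebra k K :=
  Algebra.adjoin k (Set.range fun i => φ i / φ j)

theorem ratio_mem (φ : ι → K) (i j : ι) : φ i / φ j ∈ ring k φ j :=
  Algebra.subset_adjoin ⟨i, rfl⟩

theorem val_pos (P : Pl) {x : K} (hx : x ≠ 0) : 0 < P.1 x :=
  zero_lt_iff.mpr (by simpa using hx)

theorem val_ratio_le {j : ι} {P : Pl} (h : IsMax φ j P) (i : ι) : P.1 (φ i / φ j) ≤ 1 := by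
  rw [map_div₀, div_le_one₀ (val_pos P h.1)]; exact h.2 i

theorem isMax_iff {j : ι} {P : Pl} (hj : φ j ≠ 0) :
    IsMax φ j P ↔ ∀ i, P.1 (φ i / φ j) ≤ 1 := by
  refine ⟨fun h => val_ratio_le h, fun h => ⟨hj, fun i => ?_⟩⟩
  have := h i
  rwa [map_div₀, div_le_one₀ (val_pos P hj)] at this

theorem val_le_one_of_mem {j : ι} {P : Pl} (h : IsMax φ j P) {a : K} (ha : a ∈ ring k φ j) :
    P.1 a ≤ 1 := by
  induction ha using Algebra.adjoin_induction with
  | mem x hx => obtain ⟨i, rfl⟩ := hx; exact val_ratio_le h i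
  | algebraMap c => exact val_algebraMap_le P c
  | add x y _ _ h1 h2 => exact P.1.map_add_le h1 h2
  | mul x y _ _ h1 h2 => rw [map_mul]; exact mul_le_one' h1 h2

theorem exists_isMax [Finite ι] (P : Pl) (h : ∃ i, φ i ≠ 0) : ∃ j, IsMax φ j P := by
  obtain ⟨i₀, hi₀⟩ := h
  have : Nonempty ι := ⟨i₀⟩
  obtain ⟨j, hj⟩ := Finite.exists_max fun i => P.1 (φ i)
  refine ⟨j, fun h0 => ?_, hj⟩
  have := hj i₀
  rw [h0, map_zero, le_zero_iff] at this
  exact hi₀ ((Valuation.zero_iff _).mp this)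

theorem exists_const [IsAlgClosed k] (hK : FunFld.IsFunctionField k K) (P : Pl) {z : K}
    (hz : P.1 z ≤ 1) : ∃ c : k, P.1 (z - algebraMap k K c) < 1 := by
  have := Existence.finiteDimensional_residueField hK P
  have : Algebra.IsIntegral k (IsLocalRing.ResidueField P.O) :=
    @Algebra.IsIntegral.of_finite k (IsLocalRing.ResidueField P.O) _ _ _ this
  obtain ⟨c, hc⟩ := (IsAlgClosed.algebraMap_bijective_of_isIntegral
    (k := k) (K := IsLocalRing.ResidueField P.O)).2 (IsLocalRing.residue P.O ⟨z, hz⟩)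
  refine ⟨c, ?_⟩
  have h0 : IsLocalRing.residue P.O (⟨z, hz⟩ - algebraMap k P.O c) = 0 := by
    rw [map_sub, ← algebraMap_residue, hc, sub_self]
  exact (res_eq_zero_iff P _).mp h0

theorem const_unique (P : Pl) {z : K} {c c' : k} (h : P.1 (z - algebraMap k K c) < 1)
    (h' : P.1 (z - algebraMap k K c') < 1) : c = c' := by
  by_contra hne
  have h1 := P.1.map_sub (z - algebraMap k K c) (z - algebraMap k K c')
  rw [sub_sub_sub_cancel_left, ← map_sub, val_algebraMap _ (sub_ne_zero.mpr (Ne.symm hne))] at h1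
  exact absurd h1 (not_le.mpr (max_lt h h'))

theorem val_eq_one_iff_const (P : Pl) {z : K} {c : k} (h : P.1 (z - algebraMap k K c) < 1) :
    P.1 z = 1 ↔ c ≠ 0 := by
  refine ⟨fun hz hc => ?_, fun hc => ?_⟩
  · rw [hc, map_zero, sub_zero, hz] at h; exact lt_irrefl _ h
  · have h2 := P.1.map_add_eq_of_lt_left (x := algebraMap k K c) (y := z - algebraMap k K c)
      (by rwa [val_algebraMap _ hc])
    rw [add_sub_cancel, val_algebraMap _ hc] at h2
    exact h2

theorem mem_locRing_iff {j : ι} {P : Pl} (hj : IsMax φ j P) (z : K) :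
    _root_.FunFld.InLocRing φ P z ↔
      ∃ u ∈ ring k φ j, ∃ w ∈ ring k φ j, P.1 w = 1 ∧ z * w = u := by
  refine ⟨fun h => ?_, fun ⟨u, hu, w, hw, h⟩ => ⟨j, hj.1, hj.2, u, hu, w, hw, h⟩⟩
  obtain ⟨j', hj'0, hj', u, hu, w, hw, hw1, hzw⟩ := h
  have hmem : ∀ a ∈ ring k φ j', ∃ N : ℕ, a * (φ j' / φ j) ^ N ∈ ring k φ j := by
    intro a ha
    induction ha using Algebra.adjoin_induction with
    | mem x hx =>
      obtain ⟨i, rfl⟩ := hx
      exact ⟨1, by rw [pow_one, div_mul_div_cancel₀ hj'0]; exact ratio_mem φ i j⟩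
    | algebraMap c => exact ⟨0, by simpa using (ring k φ j).algebraMap_mem c⟩
    | add x y _ _ h1 h2 =>
      obtain ⟨N, hN⟩ := h1
      obtain ⟨M, hM⟩ := h2
      refine ⟨N + M, ?_⟩
      have e : (x + y) * (φ j' / φ j) ^ (N + M) =
          x * (φ j' / φ j) ^ N * (φ j' / φ j) ^ M + y * (φ j' / φ j) ^ M * (φ j' / φ j) ^ N := by
        ring
      rw [e]
      exact add_mem (mul_mem hN (pow_mem (ratio_mem φ j' j) _))
        (mul_mem hM (pow_mem (ratio_mem φ j' j) _))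
    | mul x y _ _ h1 h2 =>
      obtain ⟨N, hN⟩ := h1
      obtain ⟨M, hM⟩ := h2
      refine ⟨N + M, ?_⟩
      have e : x * y * (φ j' / φ j) ^ (N + M) =
          x * (φ j' / φ j) ^ N * (y * (φ j' / φ j) ^ M) := by
        ring
      rw [e]; exact mul_mem hN hM
  obtain ⟨N, hN⟩ := hmem u hu
  obtain ⟨M, hM⟩ := hmem w hw
  have hr : P.1 (φ j' / φ j) = 1 := by
    rw [map_div₀, le_antisymm (hj.2 j') (hj' j), div_self (val_pos P hj.1).ne']
  refine ⟨u * (φ j' / φ j) ^ N * (φ j' / φ j) ^ M, mul_mem hN (pow_mem (ratio_mem φ j' j) _),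
    w * (φ j' / φ j) ^ M * (φ j' / φ j) ^ N, mul_mem hM (pow_mem (ratio_mem φ j' j) _), ?_, ?_⟩
  · simp [map_mul, map_pow, hw1, hr]
  · rw [← hzw]; ring

theorem locRing_of_mem {j : ι} {P : Pl} (hj : IsMax φ j P) {a : K} (ha : a ∈ ring k φ j) :
    _root_.FunFld.InLocRing φ P a :=
  (mem_locRing_iff hj a).mpr ⟨a, ha, 1, one_mem _, map_one _, mul_one a⟩

theorem locRing_add {j : ι} {P : Pl} (hj : IsMax φ j P) {a b : K}
    (ha : _root_.FunFld.InLocRing φ P a) (hb : _root_.FunFld.InLocRing φ P b) :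
    _root_.FunFld.InLocRing φ P (a + b) := by
  obtain ⟨u, hu, w, hw, hw1, h⟩ := (mem_locRing_iff hj a).mp ha
  obtain ⟨u', hu', w', hw', hw1', h'⟩ := (mem_locRing_iff hj b).mp hb
  refine (mem_locRing_iff hj _).mpr
    ⟨u * w' + u' * w, add_mem (mul_mem hu hw') (mul_mem hu' hw), w * w', mul_mem hw hw', ?_, ?_⟩
  · rw [map_mul, hw1, hw1', one_mul]
  · rw [← h, ← h']; ring

theorem locRing_mul {j : ι} {P : Pl} (hj : IsMax φ j P) {a b : K}
    (ha : _root_.FunFld.InLocRing φ P a) (hb : _root_.FunFld.InLocRing φ P b) :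
    _root_.FunFld.InLocRing φ P (a * b) := by
  obtain ⟨u, hu, w, hw, hw1, h⟩ := (mem_locRing_iff hj a).mp ha
  obtain ⟨u', hu', w', hw', hw1', h'⟩ := (mem_locRing_iff hj b).mp hb
  refine (mem_locRing_iff hj _).mpr ⟨u * u', mul_mem hu hu', w * w', mul_mem hw hw', ?_, ?_⟩
  · rw [map_mul, hw1, hw1', one_mul]
  · rw [← h, ← h']; ring

theorem val_le_one_of_locRing {P : Pl} {z : K} (h : _root_.FunFld.InLocRing φ P z) : P.1 z ≤ 1 := by
  obtain ⟨j, hj0, hj, u, hu, w, -, hw1, h⟩ := h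
  have h1 := val_le_one_of_mem ⟨hj0, hj⟩ hu
  rwa [← h, map_mul, hw1, mul_one] at h1

theorem exists_common_const {j : ι} {P Q : Pl}
    (h : ∀ i, ∃ c : k, P.1 (φ i / φ j - algebraMap k K c) < 1 ∧
      Q.1 (φ i / φ j - algebraMap k K c) < 1)
    (hP : IsMax φ j P) (hQ : IsMax φ j Q) {a : K} (ha : a ∈ ring k φ j) :
    ∃ c : k, P.1 (a - algebraMap k K c) < 1 ∧ Q.1 (a - algebraMap k K c) < 1 := by
  induction ha using Algebra.adjoin_induction with
  | mem x hx => obtain ⟨i, rfl⟩ := hx; exact h i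
  | algebraMap c => exact ⟨c, by simp, by simp⟩
  | add x y _ _ h1 h2 =>
    obtain ⟨c, hc, hc'⟩ := h1
    obtain ⟨d, hd, hd'⟩ := h2
    refine ⟨c + d, ?_, ?_⟩ <;> rw [map_add, add_sub_add_comm]
    exacts [P.1.map_add_lt hc hd, Q.1.map_add_lt hc' hd']
  | mul x y hx hy h1 h2 =>
    obtain ⟨c, hc, hc'⟩ := h1
    obtain ⟨d, hd, hd'⟩ := h2
    have e : x * y - algebraMap k K (c * d) =
        (x - algebraMap k K c) * y + algebraMap k K c * (y - algebraMap k K d) := by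
      rw [map_mul]; ring
    refine ⟨c * d, ?_, ?_⟩ <;> rw [e]
    · refine P.1.map_add_lt ?_ ?_ <;> rw [map_mul]
      · exact (mul_le_of_le_one_right' (val_le_one_of_mem hP hy)).trans_lt hc
      · exact (mul_le_of_le_one_left' (val_algebraMap_le P c)).trans_lt hd
    · refine Q.1.map_add_lt ?_ ?_ <;> rw [map_mul]
      · exact (mul_le_of_le_one_right' (val_le_one_of_mem hQ hy)).trans_lt hc'
      · exact (mul_le_of_le_one_left' (val_algebraMap_le Q c)).trans_lt hd'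

theorem locRing_of_sameImage {P Q : Pl} (h : _root_.FunFld.SameImage φ P Q) {z : K}
    (hz : _root_.FunFld.InLocRing φ P z) : Q.1 z ≤ 1 ∧ (Q.1 z < 1 ↔ P.1 z < 1) := by
  obtain ⟨j, hj0, hP, hQ, hc⟩ := h
  obtain ⟨u, hu, w, hw, hw1, hzw⟩ := (mem_locRing_iff ⟨hj0, hP⟩ z).mp hz
  obtain ⟨c, hcP, hcQ⟩ := exists_common_const hc ⟨hj0, hP⟩ ⟨hj0, hQ⟩ hw
  obtain ⟨d, hdP, hdQ⟩ := exists_common_const hc ⟨hj0, hP⟩ ⟨hj0, hQ⟩ hu
  have hwQ : Q.1 w = 1 := (val_eq_one_iff_const Q hcQ).mpr ((val_eq_one_iff_const P hcP).mp hw1)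
  have hzQ : Q.1 z = Q.1 u := by rw [← hzw, map_mul, hwQ, mul_one]
  have hzP : P.1 z = P.1 u := by rw [← hzw, map_mul, hw1, mul_one]
  have hQu : Q.1 u ≤ 1 := val_le_one_of_mem (P := Q) ⟨hj0, hQ⟩ hu
  refine ⟨hzQ ▸ hQu, ?_⟩
  rw [hzQ, hzP]
  have hPu : P.1 u ≤ 1 := val_le_one_of_mem (P := P) ⟨hj0, hP⟩ hu
  constructor <;> intro hlt
  · exact lt_of_le_of_ne hPu fun he =>
      hlt.ne ((val_eq_one_iff_const Q hdQ).mpr ((val_eq_one_iff_const P hdP).mp he))
  · exact lt_of_le_of_ne hQu fun he =>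
      hlt.ne ((val_eq_one_iff_const P hdP).mpr ((val_eq_one_iff_const Q hdQ).mp he))

theorem sameImage_iff [IsAlgClosed k] [Finite ι] (hK : FunFld.IsFunctionField k K)
    (h0 : ∃ i, φ i ≠ 0) (P Q : Pl) : _root_.FunFld.SameImage φ P Q ↔
      ∀ z : K, _root_.FunFld.InLocRing φ P z → Q.1 z ≤ 1 ∧ (Q.1 z < 1 ↔ P.1 z < 1) := by
  refine ⟨fun h z hz => locRing_of_sameImage h hz, fun h => ?_⟩
  obtain ⟨j, hj⟩ := exists_isMax P h0
  refine ⟨j, hj.1, hj.2, ((isMax_iff hj.1).mpr fun i =>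
    (h _ (locRing_of_mem hj (ratio_mem φ i j))).1).2, fun i => ?_⟩
  obtain ⟨c, hc⟩ := exists_const hK P (val_ratio_le hj i)
  exact ⟨c, hc, (h _ (locRing_of_mem hj (sub_mem (ratio_mem φ i j)
    ((ring k φ j).algebraMap_mem c)))).2.mpr hc⟩

theorem sameImage_refl [IsAlgClosed k] [Finite ι] (hK : FunFld.IsFunctionField k K)
    (h0 : ∃ i, φ i ≠ 0) (P : Pl) : _root_.FunFld.SameImage φ P P :=
  (sameImage_iff hK h0 P P).mpr fun _ hz => ⟨val_le_one_of_locRing hz, Iff.rfl⟩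

theorem exists_sep [IsAlgClosed k] (hK : FunFld.IsFunctionField k K) {j : ι} {P Q : Pl}
    (hP : IsMax φ j P) (hQ : IsMax φ j Q) (h : ¬ _root_.FunFld.SameImage φ P Q) :
    ∃ a ∈ ring k φ j, P.1 a = 1 ∧ Q.1 a < 1 := by
  obtain ⟨i, hi⟩ := not_forall.mp fun hall => h ⟨j, hP.1, hP.2, hQ.2, hall⟩
  obtain ⟨c, hc⟩ := exists_const hK Q (val_ratio_le hQ i)
  have hm : φ i / φ j - algebraMap k K c ∈ ring k φ j :=
    sub_mem (ratio_mem φ i j) ((ring k φ j).algebraMap_mem c)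
  exact ⟨_, hm, le_antisymm (val_le_one_of_mem hP hm) (not_lt.mp fun hlt => hi ⟨c, hlt, hc⟩), hc⟩

theorem field_adjoin_eq (φ : ι → K) {j l : ι} (hj : φ j ≠ 0) (hl : φ l ≠ 0) :
    IntermediateField.adjoin k (Set.range fun i => φ i / φ j) =
      IntermediateField.adjoin k (Set.range fun i => φ i / φ l) := by
  have key : ∀ {a b : ι}, φ a ≠ 0 → φ b ≠ 0 →
      IntermediateField.adjoin k (Set.range fun i => φ i / φ a) ≤
        IntermediateField.adjoin k (Set.range fun i => φ i / φ b) := by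
    intro a b ha hb
    rw [adjoin_le_iff]
    rintro _ ⟨i, rfl⟩
    have h1 : φ i / φ b ∈ IntermediateField.adjoin k (Set.range fun i => φ i / φ b) :=
      subset_adjoin k _ ⟨i, rfl⟩
    have h2 : φ a / φ b ∈ IntermediateField.adjoin k (Set.range fun i => φ i / φ b) :=
      subset_adjoin k _ ⟨a, rfl⟩
    have h3 := div_mem h1 h2
    rw [div_div_div_cancel_right₀ hb] at h3
    exact h3
  exact le_antisymm (key hj hl) (key hl hj)

theorem adjoin_eq_top_of_nonsingular {P : Pl} (h : _root_.FunFld.IsNonsingularAt φ P)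
    {l : ι} (hl : φ l ≠ 0) : IntermediateField.adjoin k (Set.range fun i => φ i / φ l) = ⊤ := by
  rw [eq_top_iff]
  have key : ∀ z : K, P.1 z ≤ 1 → z ∈ IntermediateField.adjoin k (Set.range fun i => φ i / φ l) := by
    intro z hz
    obtain ⟨j, hj0, -, u, hu, w, hw, hw1, hzw⟩ := h z hz
    have hle := IntermediateField.algebra_adjoin_le_adjoin k (Set.range fun i => φ i / φ j)
    have hw0 : w ≠ 0 := by rintro rfl; simp at hw1
    have hzu : z = u / w := eq_div_iff hw0 |>.mpr hzw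
    rw [hzu, ← field_adjoin_eq φ hj0 hl]
    exact div_mem (hle hu) (hle hw)
  intro z _
  rcases le_total (P.1 z) 1 with hz | hz
  · exact key z hz
  · rw [← inv_inv z]
    exact inv_mem (key _ (by rw [map_inv₀]; exact inv_le_one_of_one_le₀ hz))

end Groth.Agent.Lib.FunFld.LinSys.Chart
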