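import Groth.Agent.Lib.FunFld.LinSys.Conductor
import Groth.Agent.Lib.FunFld.LinSer.Basic

/-! Nonsingular places of the map given by a tuple of functions. -/

namespace Groth.Agent.Lib.FunFld.LinSys.Nonsingular

open WithZero
open Groth.Agent.Lib.FunFld.Place Groth.Agent.Lib.FunFld.Degree
open Groth.Agent.Lib.FunFld.LinSys

universe u v w
variable {k : Type u} {K : Type v} [Field k] [IsAlgClosed k] [Field K] [Algebra k K]
  {ι : Type w} [Fintype ι] {φ : ι → K}

local notation "Pl" => _root_.FunFld.Place k K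
local notation "Dv" => _root_.FunFld.Divisor k K

/-- Functions vanishing to high order on the fibre lie in the local ring. -/
theorem exists_bound_locRing (hK : FunFld.IsFunctionField k K) {j : ι} {P : Pl}
    (hj : Chart.IsMax φ j P)
    (htop : IntermediateField.adjoin k (Set.range fun i => φ i / φ j) = ⊤) :
    ∃ N : ℕ, ∀ z : K, (∀ Q : Pl, _root_.FunFld.SameImage φ P Q → Q.1 z ≤ exp (-(N : ℤ))) →
      _root_.FunFld.InLocRing φ P z := by
  classical
  obtain ⟨c, hc, hc0, hcb⟩ := Conductor.exists_conductor hK hj.1 htop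
  set Z := (Degree.finite_zeros hK c).toFinset
  refine ⟨∑ Q ∈ Z, (Q.ord c).toNat, fun z hz => ?_⟩
  have hN : ∀ Q : Pl, Q.ord c ≤ ((∑ Q ∈ Z, (Q.ord c).toNat : ℕ) : ℤ) := by
    intro Q
    rcases le_or_gt (Q.ord c) 0 with h | h
    · omega
    · have := Finset.single_le_sum (f := fun Q : Pl => (Q.ord c).toNat)
        (fun _ _ => Nat.zero_le _) (show Q ∈ Z by simpa [Z] using h)
      omega
  rcases eq_or_ne z 0 with rfl | hz0
  · exact Chart.locRing_of_mem hj (zero_mem _)
  set Bad := ((Degree.finite_support_ord hK z).union (Degree.finite_zeros hK c)).toFinset.filter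
    fun Q => Chart.IsMax φ j Q ∧ ¬ _root_.FunFld.SameImage φ P Q
  have hsep : ∀ Q ∈ Bad, ∃ a ∈ Chart.ring k φ j, P.1 a = 1 ∧ Q.1 a < 1 := fun Q hQ =>
    Chart.exists_sep hK hj (Finset.mem_filter.mp hQ).2.1 (Finset.mem_filter.mp hQ).2.2
  choose! a ha haP haQ using hsep
  set w := ∏ Q ∈ Bad, a Q
  have hw : w ∈ Chart.ring k φ j := Subalgebra.prod_mem _ fun Q hQ => ha Q hQ
  have hwP : P.1 w = 1 := by rw [map_prod]; exact Finset.prod_eq_one fun Q hQ => haP Q hQ
  have hw0 : w ≠ 0 := by rintro h; simp [h] at hwP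
  have hwQ : ∀ Q ∈ Bad, 1 ≤ Q.ord w := by
    intro Q hQ
    have h1 : Q.1 w < 1 := by
      rw [show w = a Q * ∏ R ∈ Bad.erase Q, a R from (Finset.mul_prod_erase _ _ hQ).symm, map_mul]
      exact (mul_le_of_le_one_right' (Chart.val_le_one_of_mem (Finset.mem_filter.mp hQ).2.1
        (Subalgebra.prod_mem _ fun R hR => ha R (Finset.mem_of_mem_erase hR)))).trans_lt (haQ Q hQ)
    have := (val_lt_one_iff Q).mp h1
    rcases this with h | h
    · exact absurd h hw0
    · omega
  set M := ∑ Q ∈ Bad, (Q.ord c - Q.ord z).toNat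
  have hb : ∀ Q : Pl, Chart.IsMax φ j Q → Q.1 (z * w ^ M / c) ≤ 1 := by
    intro Q hQ
    rw [val_le_one_iff, ord_div Q (mul_ne_zero hz0 (pow_ne_zero _ hw0)) hc0,
      ord_mul Q hz0 (pow_ne_zero _ hw0), ord_pow]
    have hw1 : 0 ≤ Q.ord w := (val_le_one_iff Q).mp (Chart.val_le_one_of_mem hQ hw)
    have hMw : 0 ≤ (M : ℤ) * Q.ord w := mul_nonneg (Int.natCast_nonneg _) hw1
    by_cases hfib : _root_.FunFld.SameImage φ P Q
    · have h1 := hz Q hfib
      rw [val_eq_exp Q hz0, exp_le_exp] at h1
      have := hN Q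
      omega
    · by_cases hQb : Q ∈ Bad
      · have h1 := hwQ Q hQb
        have h2 := Finset.single_le_sum (f := fun Q : Pl => (Q.ord c - Q.ord z).toNat)
          (fun _ _ => Nat.zero_le _) hQb
        have h3 : (M : ℤ) * 1 ≤ (M : ℤ) * Q.ord w :=
          mul_le_mul_of_nonneg_left h1 (Int.natCast_nonneg _)
        omega
      · have hno : ¬ (Q.ord z ≠ 0 ∨ 0 < Q.ord c) := by
          intro h
          refine hQb (Finset.mem_filter.mpr ⟨?_, hQ, hfib⟩)
          rw [Set.Finite.mem_toFinset]
          exact h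
        omega
  have h := hcb _ hb
  rw [mul_div_cancel₀ _ hc0] at h
  exact (Chart.mem_locRing_iff hj z).mpr
    ⟨_, h, w ^ M, pow_mem hw M, by rw [map_pow, hwP, one_pow], rfl⟩

/-- A single branch with a uniformizer in the local ring is nonsingular. -/
theorem of_uniformizer (hK : FunFld.IsFunctionField k K) {j : ι} {P : Pl} (hj : Chart.IsMax φ j P)
    (htop : IntermediateField.adjoin k (Set.range fun i => φ i / φ j) = ⊤)
    (hfib : ∀ Q : Pl, _root_.FunFld.SameImage φ P Q → Q = P) {t : K}
    (ht : _root_.FunFld.InLocRing φ P t) (ht1 : P.1 t = exp (-1)) :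
    _root_.FunFld.IsNonsingularAt φ P := by
  obtain ⟨N, hN⟩ := exists_bound_locRing hK hj htop
  have ht0 : t ≠ 0 := by rintro rfl; exact exp_ne_zero ((map_zero P.1).symm.trans ht1).symm
  intro z hz
  have key : ∀ n : ℕ, ∃ u, _root_.FunFld.InLocRing φ P u ∧ P.1 (z - u) ≤ exp (-(n : ℤ)) := by
    intro n
    induction n with
    | zero => exact ⟨0, Chart.locRing_of_mem hj (zero_mem _), by simpa using hz⟩
    | succ n ih =>
      obtain ⟨u, hu, hle⟩ := ih
      have htn : P.1 (t ^ n) = exp (-(n : ℤ)) := by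
        rw [map_pow, ht1, ← exp_nsmul]; simp
      obtain ⟨c, hc⟩ := Chart.exists_const hK P (z := (z - u) / t ^ n) (by
        rw [map_div₀, htn, div_le_one₀ (zero_lt_iff.mpr exp_ne_zero)]; exact hle)
      have htn' : _root_.FunFld.InLocRing φ P (t ^ n) := by
        clear hle htn hc
        induction n with
        | zero => rw [pow_zero]; exact Chart.locRing_of_mem hj (one_mem _)
        | succ n ih => rw [pow_succ]; exact Chart.locRing_mul hj ih ht
      refine ⟨u + algebraMap k K c * t ^ n, Chart.locRing_add hj hu (Chart.locRing_mul hj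
        (Chart.locRing_of_mem hj ((Chart.ring k φ j).algebraMap_mem c)) htn'), ?_⟩
      have e : z - (u + algebraMap k K c * t ^ n) =
          ((z - u) / t ^ n - algebraMap k K c) * t ^ n := by
        field_simp [pow_ne_zero n ht0]
        ring
      rw [e, map_mul, htn]
      have h1 : P.1 ((z - u) / t ^ n - algebraMap k K c) ≤ exp (-1) := by
        rw [val_le_exp_iff]
        rcases (val_lt_one_iff P).mp hc with h | h
        · exact Or.inl h
        · exact Or.inr (by omega)
      calc _ ≤ exp (-1) * exp (-(n : ℤ)) := by gcongr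
        _ = _ := by rw [← exp_add]; congr 1; push_cast; ring
  obtain ⟨u, hu, hle⟩ := key N
  have h1 : _root_.FunFld.InLocRing φ P (z - u) := hN _ fun Q hQ => by rw [hfib Q hQ]; exact hle
  have := Chart.locRing_add hj h1 hu
  rwa [sub_add_cancel] at this

omit [Fintype ι] in
theorem iff_uniformizer [Fintype ι] (hK : FunFld.IsFunctionField k K) (h0 : ∃ i, φ i ≠ 0)
    (htop : ∀ j, φ j ≠ 0 → IntermediateField.adjoin k (Set.range fun i => φ i / φ j) = ⊤) (P : Pl) :
    _root_.FunFld.IsNonsingularAt φ P ↔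
      (∀ Q : Pl, (∀ z : K, _root_.FunFld.InLocRing φ P z → Q.1 z ≤ 1) → Q = P) ∧
        ∃ t : K, _root_.FunFld.InLocRing φ P t ∧ P.1 t = exp (-1) := by
  constructor
  · intro h
    obtain ⟨t, ht⟩ := exists_val_eq_exp P (-1)
    exact ⟨fun Q hQ => (place_eq_of_O_le (P := P) (Q := Q) fun z hz => hQ z (h z hz)).symm,
      t, h t (by rw [ht, ← exp_zero, exp_le_exp]; norm_num), ht⟩
  · rintro ⟨h1, t, ht, ht1⟩
    obtain ⟨j, hj⟩ := Chart.exists_isMax P h0
    exact of_uniformizer hK hj (htop j hj.1)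
      (fun Q hQ => h1 Q fun z hz => (Chart.locRing_of_sameImage hQ hz).1) ht ht1

/-- A function regular away from `R` with prescribed vanishing. -/
theorem exists_regular (hK : FunFld.IsFunctionField k K) (R P : Pl) (D : Dv) :
    ∃ (n : ℕ) (f : K), f ∈ _root_.FunFld.L (Finsupp.single R (n : ℤ) - D) ∧
      f ∉ _root_.FunFld.L (Finsupp.single R (n : ℤ) - D - Finsupp.single P 1) := by
  refine ⟨(2 * (_root_.FunFld.genus k K : ℤ) + D.deg).toNat, ?_⟩
  set n := (2 * (_root_.FunFld.genus k K : ℤ) + D.deg).toNat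
  by_contra hcon
  simp only [not_exists, not_and, not_not] at hcon
  have := finiteDimensional_L hK (Finsupp.single R (n : ℤ) - D - Finsupp.single P 1)
  have h := Submodule.finrank_mono (R := k) (s := _root_.FunFld.L (Finsupp.single R (n : ℤ) - D))
    (t := _root_.FunFld.L (Finsupp.single R (n : ℤ) - D - Finsupp.single P 1)) hcon
  have d1 : _root_.FunFld.Divisor.deg (Finsupp.single R (n : ℤ) - D) = n - D.deg := by
    rw [deg_sub, deg_single, Rational.deg_eq_one hK, Nat.cast_one, mul_one]
  have d2 : _root_.FunFld.Divisor.deg (Finsupp.single R (n : ℤ) - D - Finsupp.single P 1) = n - D.deg - 1 := by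
    rw [deg_sub, d1, deg_single, Rational.deg_eq_one hK, Nat.cast_one, mul_one]
  have e1 := Weil.ell_eq_of_deg_ge hK (D := Finsupp.single R (n : ℤ) - D) (by omega)
  have e2 := Weil.ell_eq_of_deg_ge hK (D := Finsupp.single R (n : ℤ) - D - Finsupp.single P 1)
    (by omega)
  rw [d1] at e1
  rw [d2] at e2
  unfold _root_.FunFld.ell at e1 e2
  omega

theorem finite_singular (hK : FunFld.IsFunctionField k K) (h0 : ∃ i, φ i ≠ 0)
    (htop : ∀ j, φ j ≠ 0 → IntermediateField.adjoin k (Set.range fun i => φ i / φ j) = ⊤) :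
    {P : Pl | ¬ _root_.FunFld.IsNonsingularAt φ P}.Finite := by
  classical
  have hch : ∀ j : ι, {P : Pl | Chart.IsMax φ j P ∧ ¬ _root_.FunFld.IsNonsingularAt φ P}.Finite := by
    intro j
    by_cases hj0 : φ j = 0
    · exact Set.finite_empty.subset fun P hP => hP.1.1 hj0
    obtain ⟨c, hc, hc0, hcb⟩ := Conductor.exists_conductor hK hj0 (htop j hj0)
    refine (Degree.finite_zeros hK c).subset fun P ⟨hP, hns⟩ => ?_
    by_contra hz
    simp only [Set.mem_ofPred_eq, not_lt] at hz
    have hcP : P.1 c = 1 := by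
      refine le_antisymm (Chart.val_le_one_of_mem hP hc) (not_lt.mp fun h => ?_)
      rcases (val_lt_one_iff P).mp h with h | h
      · exact hc0 h
      · omega
    obtain ⟨R, hR⟩ : ∃ R : Pl, ¬ Chart.IsMax φ j R := by
      by_contra hall
      simp only [not_exists, not_not] at hall
      obtain ⟨y, hy⟩ := Riemann.exists_transcendental hK
      have hbot : IntermediateField.adjoin k (Set.range fun i => φ i / φ j) = ⊥ := by
        rw [eq_bot_iff, IntermediateField.adjoin_le_iff]
        rintro _ ⟨i, rfl⟩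
        have hmem : φ i / φ j ∈ _root_.FunFld.L (0 : Dv) := fun Q => by
          simpa using Chart.val_ratio_le (hall Q) i
        rw [L_zero hK, Submodule.mem_one] at hmem
        exact IntermediateField.mem_bot.mpr hmem
      have hy' : y ∈ (⊥ : IntermediateField k K) :=
        hbot ▸ (htop j hj0).symm ▸ IntermediateField.mem_top
      exact Bound.not_mem_range_of_transcendental hy (IntermediateField.mem_bot.mp hy')
    have hne : ∀ Q : Pl, Chart.IsMax φ j Q → Q ≠ R := fun Q hQ h => hR (h ▸ hQ)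
    have hreg : ∀ {n : ℕ} {D : Dv} {f : K}, 0 ≤ D →
        f ∈ _root_.FunFld.L (Finsupp.single R (n : ℤ) - D) → c * f ∈ Chart.ring k φ j := by
      intro n D f hD hf
      refine hcb f fun Q hQ => ?_
      have h1 := hf Q
      have h2 := Finsupp.le_def.mp hD Q
      simp only [Finsupp.sub_apply, Finsupp.single_eq_of_ne (hne Q hQ), Finsupp.coe_zero,
        Pi.zero_apply] at h1 h2
      exact h1.trans (exp_le_exp.mpr (by omega) |>.trans_eq exp_zero)
    have hexact : ∀ {n : ℕ} {D : Dv} {f : K}, f ∈ _root_.FunFld.L (Finsupp.single R (n : ℤ) - D) →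
        f ∉ _root_.FunFld.L (Finsupp.single R (n : ℤ) - D - Finsupp.single P 1) →
        f ≠ 0 ∧ P.ord f = D P := by
      intro n D f hf hf'
      have hf0 : f ≠ 0 := fun h => hf' (h ▸ zero_mem _)
      refine ⟨hf0, ?_⟩
      by_contra hne'
      have h1 := (Conductor.mem_L_iff_of_le.mp hf).resolve_left hf0
      refine hf' (Conductor.mem_L_iff_of_le.mpr (Or.inr fun Q => ?_))
      have := h1 Q
      rcases eq_or_ne Q P with rfl | hQ
      · simp only [Finsupp.sub_apply, Finsupp.single_eq_same,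
          Finsupp.single_eq_of_ne (hne Q hP)] at this ⊢
        omega
      · simpa [Finsupp.single_eq_of_ne hQ] using this
    obtain ⟨n, t, ht, ht'⟩ := exists_regular hK R P (Finsupp.single P 1)
    obtain ⟨ht0, htP⟩ := hexact ht ht'
    rw [Finsupp.single_eq_same] at htP
    refine hns (of_uniformizer hK hP (htop j hj0) (fun Q hQ => ?_)
      (Chart.locRing_of_mem hP (hreg (Finsupp.single_nonneg.mpr zero_le_one) ht)) ?_)
    · by_contra hQP
      have hQ' : Chart.IsMax φ j Q := (Chart.isMax_iff hj0).mpr fun i =>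
        (Chart.locRing_of_sameImage hQ (Chart.locRing_of_mem hP (Chart.ratio_mem φ i j))).1
      obtain ⟨m, s, hs, hs'⟩ := exists_regular hK R P (Finsupp.single Q 1)
      obtain ⟨hs0, hsP⟩ := hexact hs hs'
      rw [Finsupp.single_eq_of_ne (Ne.symm hQP)] at hsP
      have hcs := Chart.locRing_of_mem hP (hreg (Finsupp.single_nonneg.mpr zero_le_one) hs)
      have h1 : P.1 (c * s) = 1 := by
        rw [map_mul, hcP, one_mul, val_eq_exp P hs0, hsP, neg_zero, exp_zero]
      have h2 : Q.1 (c * s) < 1 := by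
        rw [map_mul]
        refine (mul_le_of_le_one_left' (Chart.val_le_one_of_mem hQ' hc)).trans_lt ?_
        have h3 := (Conductor.mem_L_iff_of_le.mp hs).resolve_left hs0 Q
        rw [Finsupp.sub_apply, Finsupp.single_eq_same, Finsupp.single_eq_of_ne (hne Q hQ')] at h3
        rw [val_eq_exp Q hs0, ← exp_zero, exp_lt_exp]
        omega
      exact absurd ((Chart.locRing_of_sameImage hQ hcs).2.mp h2) (by rw [h1]; exact lt_irrefl _)
    · rw [map_mul, hcP, one_mul, val_eq_exp P ht0, htP]
  refine (Set.finite_iUnion hch).subset fun P hP => ?_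
  obtain ⟨j, hj⟩ := Chart.exists_isMax P h0
  exact Set.mem_iUnion.mpr ⟨j, hj, hP⟩

end Groth.Agent.Lib.FunFld.LinSys.Nonsingular
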