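import Groth.Agent.Lib.FunFld.LinSys.Chart
import Mathlib.Algebra.Module.Submodule.Union

/-! A conductor for the coordinate ring of an affine chart. -/

namespace Groth.Agent.Lib.FunFld.LinSys.Conductor

open WithZero
open Groth.Agent.Lib.FunFld.Place Groth.Agent.Lib.FunFld.Degree
open Groth.Agent.Lib.FunFld.LinSys

universe u v w
variable {k : Type u} {K : Type v} [Field k] [Field K] [Algebra k K]

local notation "Pl" => _root_.FunFld.Place k K
local notation "Dv" => _root_.FunFld.Divisor k K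

theorem mem_L_iff_of_le {D : Dv} {f : K} :
    f ∈ _root_.FunFld.L D ↔ f = 0 ∨ ∀ P, -D P ≤ P.ord f := mem_L_iff_ord

/-- A member with exact order at finitely many places. -/
theorem exists_exact [Infinite k] {V : Submodule k K} {D : Dv}
    (hVD : V ≤ _root_.FunFld.L D) (T : Finset Pl)
    (h : ∀ P ∈ T, ∃ f ∈ V, f ∉ _root_.FunFld.L (D - Finsupp.single P 1)) :
    ∃ f ∈ V, ∀ P ∈ T, f ≠ 0 ∧ P.ord f = -D P := by
  classical
  obtain ⟨x, hx⟩ := Submodule.exists_forall_notMem_of_forall_ne_top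
    (fun P : {P // P ∈ T} => (_root_.FunFld.L (D - Finsupp.single P.1 1)).comap V.subtype)
    (fun P htop => by
      obtain ⟨f, hf, hf'⟩ := h P.1 P.2
      exact hf' ((Submodule.eq_top_iff'.mp htop) ⟨f, hf⟩))
  refine ⟨x.1, x.2, fun P hP => ?_⟩
  have h2 := hx ⟨P, hP⟩
  simp only [Submodule.mem_comap, Submodule.subtype_apply] at h2
  have hx0 : x.1 ≠ 0 := fun h0 => h2 (h0 ▸ zero_mem _)
  refine ⟨hx0, ?_⟩
  have h1 := (mem_L_iff_of_le.mp (hVD x.2)).resolve_left hx0
  by_contra hne
  refine h2 (mem_L_iff_of_le.mpr (Or.inr fun R => ?_))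
  have := h1 R
  rcases eq_or_ne R P with rfl | hR
  · simp only [Finsupp.sub_apply, Finsupp.single_eq_same]; omega
  · simpa [Finsupp.single_eq_of_ne hR] using this

theorem step (hK : FunFld.IsFunctionField k K) {E : Dv} (hE : 0 ≤ E) {h : K} (h0 : h ≠ 0)
    (hh : ∀ P, E P ≠ 0 → P.ord h = -E P) (hh' : ∀ P, E P = 0 → 0 ≤ P.ord h) {n : ℕ}
    (hn : 2 * (_root_.FunFld.genus k K : ℤ) - 1 ≤ (((n : ℤ) - 1) • E).deg) :
    _root_.FunFld.L (((n : ℤ) + 1) • E) = _root_.FunFld.L ((n : ℤ) • E) ⊔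
      (_root_.FunFld.L ((n : ℤ) • E)).map (LinearMap.mulLeft k h) := by
  have hE0 : ∀ P, 0 ≤ E P := fun P => Finsupp.le_def.mp hE P
  set L₀ := _root_.FunFld.L ((n : ℤ) • E)
  set L₁ := _root_.FunFld.L (((n : ℤ) + 1) • E)
  set W := L₀.map (LinearMap.mulLeft k h)
  have := finiteDimensional_L hK ((n : ℤ) • E)
  have := finiteDimensional_L hK (((n : ℤ) + 1) • E)
  have := finiteDimensional_L hK (((n : ℤ) - 1) • E)
  have hinj : Function.Injective (LinearMap.mulLeft k h) := fun a b hab => mul_left_cancel₀ h0 hab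
  have hWfd : FiniteDimensional k ↥W := Module.Finite.map L₀ _
  have hW : Module.finrank k ↥W = Module.finrank k ↥L₀ :=
    (Submodule.equivMapOfInjective _ hinj L₀).finrank_eq.symm
  have hle : L₀ ⊔ W ≤ L₁ := by
    refine sup_le (L_mono (Finsupp.le_def.mpr fun P => ?_)) ?_
    · simp only [Finsupp.smul_apply, smul_eq_mul, add_mul]; linarith [hE0 P]
    · rintro _ ⟨f, hf, rfl⟩
      rcases eq_or_ne f 0 with rfl | hf0
      · simp
      refine mem_L_iff_of_le.mpr (Or.inr fun P => ?_)
      have := (mem_L_iff_of_le.mp hf).resolve_left hf0 P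
      simp only [Finsupp.smul_apply, smul_eq_mul, LinearMap.mulLeft_apply] at this ⊢
      rw [ord_mul P h0 hf0, add_mul, one_mul]
      rcases eq_or_ne (E P) 0 with he | he
      · have := hh' P he; simp only [he, mul_zero] at *; omega
      · have := hh P he; omega
  have hinf : L₀ ⊓ W ≤
      (_root_.FunFld.L (((n : ℤ) - 1) • E)).map (LinearMap.mulLeft k h) := by
    rintro _ ⟨hx, f, hf, rfl⟩
    refine ⟨f, ?_, rfl⟩
    rcases eq_or_ne f 0 with rfl | hf0
    · simp
    refine mem_L_iff_of_le.mpr (Or.inr fun P => ?_)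
    have h1 := (mem_L_iff_of_le.mp hf).resolve_left hf0 P
    have h2 := (mem_L_iff_of_le.mp hx).resolve_left (mul_ne_zero h0 hf0) P
    simp only [Finsupp.smul_apply, smul_eq_mul, LinearMap.mulLeft_apply] at h1 h2 ⊢
    rw [ord_mul P h0 hf0] at h2
    rw [sub_mul, one_mul]
    rcases eq_or_ne (E P) 0 with he | he
    · simp only [he, mul_zero] at *; omega
    · have := hh P he; omega
  have := Module.Finite.map (_root_.FunFld.L (((n : ℤ) - 1) • E)) (LinearMap.mulLeft k h)
  have hinf' := Submodule.finrank_mono hinf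
  rw [← (Submodule.equivMapOfInjective _ hinj
    (_root_.FunFld.L (((n : ℤ) - 1) • E))).finrank_eq] at hinf'
  have hs := Submodule.finrank_sup_add_finrank_inf_eq L₀ W
  have hEd := Degree.deg_nonneg hE
  have d0 : (((n : ℤ) - 1) • E).deg = ((n : ℤ) - 1) * E.deg := deg_smul _ _
  have d1 : ((n : ℤ) • E).deg = (n : ℤ) * E.deg := deg_smul _ _
  have d2 : (((n : ℤ) + 1) • E).deg = ((n : ℤ) + 1) * E.deg := deg_smul _ _
  have e0 := Weil.ell_eq_of_deg_ge hK hn
  have e1 := Weil.ell_eq_of_deg_ge hK (D := (n : ℤ) • E) (by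
    rw [d1]; rw [d0, sub_mul, one_mul] at hn; omega)
  have e2 := Weil.ell_eq_of_deg_ge hK (D := ((n : ℤ) + 1) • E) (by
    rw [d2, add_mul, one_mul]; rw [d0, sub_mul, one_mul] at hn; omega)
  rw [d0, sub_mul, one_mul] at e0
  rw [d1] at e1
  rw [d2, add_mul, one_mul] at e2
  unfold _root_.FunFld.ell at e0 e1 e2
  refine (Submodule.eq_of_le_of_finrank_le hle ?_).symm
  have hW' : Module.finrank k ↥(L₀ ⊓ W) ≤ _ := hinf'
  change Module.finrank k ↥L₁ ≤ _
  change (Module.finrank k ↥L₁ : ℤ) = _ at e2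
  change (Module.finrank k ↥L₀ : ℤ) = _ at e1
  omega

variable {ι : Type w} {φ : ι → K}

theorem exists_denominator {j : ι}
    (htop : IntermediateField.adjoin k (Set.range fun i => φ i / φ j) = ⊤) (z : K) :
    ∃ c ∈ Chart.ring k φ j, c ≠ 0 ∧ c * z ∈ Chart.ring k φ j := by
  have hz : z ∈ IntermediateField.adjoin k (Set.range fun i => φ i / φ j) :=
    htop ▸ IntermediateField.mem_top
  obtain ⟨r, hr, s, hs, rfl⟩ := IntermediateField.mem_adjoin_iff_div.mp hz
  rcases eq_or_ne s 0 with rfl | hs0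
  · exact ⟨1, one_mem _, one_ne_zero, by simp⟩
  · exact ⟨s, hs, hs0, by rw [mul_div_cancel₀ r hs0]; exact hr⟩

theorem exists_common_denominator {j : ι}
    (htop : IntermediateField.adjoin k (Set.range fun i => φ i / φ j) = ⊤) (s : Finset K) :
    ∃ c ∈ Chart.ring k φ j, c ≠ 0 ∧ ∀ z ∈ s, c * z ∈ Chart.ring k φ j := by
  classical
  induction s using Finset.induction_on with
  | empty => exact ⟨1, one_mem _, one_ne_zero, by simp⟩
  | insert a s _ ih =>
    obtain ⟨c, hc, hc0, h⟩ := ih
    obtain ⟨d, hd, hd0, h'⟩ := exists_denominator htop a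
    refine ⟨c * d, mul_mem hc hd, mul_ne_zero hc0 hd0, fun z hz => ?_⟩
    rcases Finset.mem_insert.mp hz with rfl | hz
    · rw [mul_assoc]; exact mul_mem hc h'
    · rw [mul_comm c, mul_assoc]; exact mul_mem hd (h z hz)

/-- The coordinate ring of a chart contains a nonzero multiple of the ring of functions regular on the chart. -/
theorem exists_conductor [IsAlgClosed k] [Fintype ι] (hK : FunFld.IsFunctionField k K) {j : ι}
    (hj : φ j ≠ 0) (htop : IntermediateField.adjoin k (Set.range fun i => φ i / φ j) = ⊤) :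
    ∃ c ∈ Chart.ring k φ j, c ≠ 0 ∧
      ∀ b : K, (∀ Q : Pl, Chart.IsMax φ j Q → Q.1 b ≤ 1) → c * b ∈ Chart.ring k φ j := by
  classical
  have : Nonempty ι := ⟨j⟩
  set r : ι → K := fun i => φ i / φ j with hr
  have hrj : r j = 1 := div_self hj
  set E := _root_.FunFld.mapDiv k r with hEdef
  have hEapp : ∀ P : Pl, E P = -Finset.univ.inf' Finset.univ_nonempty (fun i => P.ord (r i)) :=
    MapDiv.mapDiv_apply hK.1 r
  have hEle : ∀ (P : Pl) i, -E P ≤ P.ord (r i) := fun P i => by
    rw [hEapp, neg_neg]; exact Finset.inf'_le _ (Finset.mem_univ i)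
  have hE : 0 ≤ E := Finsupp.le_def.mpr fun P => by
    have h1 := hEle P j
    rw [hrj, ← map_one (algebraMap k K), ord_algebraMap] at h1
    simp only [Finsupp.coe_zero, Pi.zero_apply]; omega
  have hmax : ∀ P : Pl, E P = 0 ↔ Chart.IsMax φ j P := by
    intro P
    rw [Chart.isMax_iff hj]
    refine ⟨fun he i => (val_le_one_iff P).mpr (by have := hEle P i; simp only [hr] at this; omega),
      fun h => ?_⟩
    have h0 := Finsupp.le_def.mp hE P
    simp only [Finsupp.coe_zero, Pi.zero_apply] at h0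
    obtain ⟨i, -, hi⟩ := Finset.exists_mem_eq_inf' Finset.univ_nonempty fun i => P.ord (r i)
    have := (val_le_one_iff P).mp (h i)
    rw [hEapp, hi] at h0 ⊢
    simp only [hr] at h0 ⊢
    omega
  set V := Submodule.span k (Set.range r)
  have hVA : V ≤ (Chart.ring k φ j).toSubmodule :=
    Submodule.span_le.mpr (by rintro _ ⟨i, rfl⟩; exact Chart.ratio_mem φ i j)
  have hVD : V ≤ _root_.FunFld.L E := Submodule.span_le.mpr (by
    rintro _ ⟨i, rfl⟩; exact mem_L_iff_of_le.mpr (Or.inr fun P => hEle P i))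
  obtain ⟨h, hhV, hh⟩ := exists_exact hVD E.support fun P hP => by
    obtain ⟨i, -, hi⟩ := Finset.exists_mem_eq_inf' Finset.univ_nonempty fun i => P.ord (r i)
    refine ⟨r i, Submodule.subset_span ⟨i, rfl⟩, fun hmem => ?_⟩
    have h1 := hEapp P
    rw [hi] at h1
    rw [Finsupp.mem_support_iff] at hP
    rcases mem_L_iff_of_le.mp hmem with h0 | hord
    · rw [h0] at h1
      rw [show P.ord (0 : K) = 0 by rw [ord_def, map_zero]; rfl] at h1
      omega
    · have h2 := hord P
      simp only [Finsupp.sub_apply, Finsupp.single_eq_same] at h2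
      omega
  have hEne : E ≠ 0 := by
    intro he
    obtain ⟨y, hy⟩ := Riemann.exists_transcendental hK
    have hbot : IntermediateField.adjoin k (Set.range r) = ⊥ := by
      rw [eq_bot_iff, IntermediateField.adjoin_le_iff]
      rintro _ ⟨i, rfl⟩
      have hmem : r i ∈ _root_.FunFld.L (0 : Dv) := he ▸ hVD (Submodule.subset_span ⟨i, rfl⟩)
      rw [L_zero hK, Submodule.mem_one] at hmem
      exact IntermediateField.mem_bot.mpr hmem
    rw [hbot] at htop
    have hy' : y ∈ (⊥ : IntermediateField k K) := htop ▸ IntermediateField.mem_top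
    exact Bound.not_mem_range_of_transcendental hy (IntermediateField.mem_bot.mp hy')
  obtain ⟨P₀, hP₀⟩ := Finsupp.ne_iff.mp hEne
  have hP₀' : P₀ ∈ E.support := Finsupp.mem_support_iff.mpr hP₀
  have h0 : h ≠ 0 := (hh P₀ hP₀').1
  have hEd : 1 ≤ E.deg := by
    have h1 : Finsupp.single P₀ (1 : ℤ) ≤ E := Finsupp.le_def.mpr fun R => by
      have hR0 := Finsupp.le_def.mp hE R
      rcases eq_or_ne R P₀ with rfl | hR
      · simp only [Finsupp.coe_zero, Pi.zero_apply] at hR0 hP₀
        rw [Finsupp.single_eq_same]; omega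
      · rw [Finsupp.single_eq_of_ne hR]; exact hR0
    have h2 := deg_mono h1
    rwa [deg_single, Rational.deg_eq_one hK, Nat.cast_one, mul_one] at h2
  set N := 2 * _root_.FunFld.genus k K + 1
  have hstep : ∀ n, N ≤ n → _root_.FunFld.L (((n : ℤ) + 1) • E) = _root_.FunFld.L ((n : ℤ) • E) ⊔
      (_root_.FunFld.L ((n : ℤ) • E)).map (LinearMap.mulLeft k h) := fun n hn =>
    step hK hE h0 (fun P hP => (hh P (Finsupp.mem_support_iff.mpr hP)).2)
      (fun P hP => by
        have := (mem_L_iff_of_le.mp (hVD hhV)).resolve_left h0 P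
        omega)
      (by
        rw [deg_smul]
        have h3 : 2 * (_root_.FunFld.genus k K : ℤ) ≤ (n : ℤ) - 1 := by omega
        nlinarith)
  have := finiteDimensional_L hK ((N : ℤ) • E)
  obtain ⟨s, hs⟩ : (_root_.FunFld.L ((N : ℤ) • E)).FG := Module.Finite.iff_fg.mp inferInstance
  obtain ⟨c, hc, hc0, hcs⟩ := exists_common_denominator htop s
  have hN : _root_.FunFld.L ((N : ℤ) • E) ≤
      (Chart.ring k φ j).toSubmodule.comap (LinearMap.mulLeft k c) := by
    rw [← hs, Submodule.span_le]; exact hcs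
  have hall : ∀ n, N ≤ n → _root_.FunFld.L ((n : ℤ) • E) ≤
      (Chart.ring k φ j).toSubmodule.comap (LinearMap.mulLeft k c) := by
    intro n hn
    induction n, hn using Nat.le_induction with
    | base => exact hN
    | succ n hn ih =>
      push_cast
      rw [hstep n hn]
      refine sup_le ih ?_
      rintro _ ⟨f, hf, rfl⟩
      have h1 : c * f ∈ Chart.ring k φ j := ih hf
      change c * (h * f) ∈ Chart.ring k φ j
      rw [mul_left_comm]
      exact mul_mem (hVA hhV) h1
  refine ⟨c, hc, hc0, fun b hb => ?_⟩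
  rcases eq_or_ne b 0 with rfl | hb0
  · simp
  obtain ⟨M, hM⟩ : ∃ M : ℕ, ∀ P ∈ E.support, -P.ord b ≤ (M : ℤ) :=
    ⟨∑ P ∈ E.support, (-P.ord b).toNat, fun P hP => by
      have := Finset.single_le_sum (f := fun P : Pl => (-P.ord b).toNat)
        (fun _ _ => Nat.zero_le _) hP
      omega⟩
  refine hall (M + N) (by omega) (mem_L_iff_of_le.mpr (Or.inr fun P => ?_))
  simp only [Finsupp.smul_apply, smul_eq_mul]
  have h0' := Finsupp.le_def.mp hE P
  simp only [Finsupp.coe_zero, Pi.zero_apply] at h0'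
  rcases eq_or_ne (E P) 0 with he | he
  · have := (val_le_one_iff P).mp (hb P ((hmax P).mp he))
    rw [he]; omega
  · have := hM P (Finsupp.mem_support_iff.mpr he)
    have h4 : ((M + N : ℕ) : ℤ) * 1 ≤ ((M + N : ℕ) : ℤ) * E P :=
      mul_le_mul_of_nonneg_left (by omega) (Int.natCast_nonneg _)
    push_cast at h4 ⊢
    omega

end Groth.Agent.Lib.FunFld.LinSys.Conductor
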