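import Mathlib.Algebra.MvPolynomial.CommRing
import Mathlib.Algebra.MvPolynomial.Degrees
import Mathlib.Algebra.Polynomial.AlgebraMap
import Mathlib.Algebra.Polynomial.Roots
import Mathlib.RingTheory.Polynomial.Basic

/-! A linear change of coordinates making a plane polynomial monic. -/

namespace Groth.Agent.Lib.FunFld.LinSys.PlanePoly

open Polynomial

universe u
variable {k : Type u} [Field k]

/-- `p(T, Y)` has total degree at most `N`. -/
def Small (N : ℕ) (p : k[X][X]) : Prop := ∀ i a, (p.coeff i).coeff a ≠ 0 → a + i ≤ N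

/-- The coefficient of `Y ^ N`. -/
noncomputable def top (N : ℕ) (p : k[X][X]) : k := (p.coeff N).coeff 0

theorem small_zero (N : ℕ) : Small N (0 : k[X][X]) := fun i a h => absurd (by simp) h

theorem Small.mono {N M : ℕ} {p : k[X][X]} (h : Small N p) (hNM : N ≤ M) : Small M p :=
  fun i a ha => (h i a ha).trans hNM

theorem top_eq_zero {N M : ℕ} {p : k[X][X]} (h : Small M p) (hlt : M < N) : top N p = 0 := by
  by_contra hne
  have := h N 0 hne
  omega

theorem Small.add {N : ℕ} {p q : k[X][X]} (hp : Small N p) (hq : Small N q) : Small N (p + q) := by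
  intro i a h
  rw [coeff_add, coeff_add] at h
  by_cases h1 : (p.coeff i).coeff a = 0
  · rw [h1, zero_add] at h; exact hq i a h
  · exact hp i a h1

theorem Small.sum {ι : Type*} {N : ℕ} (s : Finset ι) {p : ι → k[X][X]}
    (h : ∀ i ∈ s, Small N (p i)) : Small N (∑ i ∈ s, p i) :=
  Finset.sum_induction p (Small N) (fun _ _ => Small.add) (small_zero N) h

theorem small_one : Small 0 (1 : k[X][X]) := by
  intro i a h
  rcases eq_or_ne i 0 with rfl | hi
  · rw [coeff_one_zero, Polynomial.coeff_one] at h
    split_ifs at h with ha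
    · omega
    · exact absurd rfl h
  · rw [Polynomial.coeff_one, if_neg hi, coeff_zero] at h
    exact absurd rfl h

theorem Small.mul {N M : ℕ} {p q : k[X][X]} (hp : Small N p) (hq : Small M q) :
    Small (N + M) (p * q) := by
  intro i a h
  rw [coeff_mul, finsetSum_coeff] at h
  obtain ⟨⟨i₁, i₂⟩, hi, h1⟩ := Finset.exists_ne_zero_of_sum_ne_zero h
  rw [coeff_mul] at h1
  obtain ⟨⟨a₁, a₂⟩, ha, h2⟩ := Finset.exists_ne_zero_of_sum_ne_zero h1
  simp only [Finset.HasAntidiagonal.mem_antidiagonal] at hi ha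
  have := hp i₁ a₁ (left_ne_zero_of_mul h2)
  have := hq i₂ a₂ (right_ne_zero_of_mul h2)
  omega

theorem top_mul {N M : ℕ} {p q : k[X][X]} (hp : Small N p) (hq : Small M q) :
    top (N + M) (p * q) = top N p * top M q := by
  rw [top, coeff_mul, finsetSum_coeff, Finset.sum_eq_single (N, M)]
  · rw [mul_coeff_zero]; rfl
  · rintro ⟨i₁, i₂⟩ hi hne
    simp only [Finset.HasAntidiagonal.mem_antidiagonal] at hi
    rw [mul_coeff_zero]
    by_contra h
    have := hp i₁ 0 (left_ne_zero_of_mul h)
    have := hq i₂ 0 (right_ne_zero_of_mul h)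
    exact hne (Prod.ext (by omega) (by omega))
  · intro h
    simp [Finset.HasAntidiagonal.mem_antidiagonal] at h

theorem small_pow {N : ℕ} {p : k[X][X]} (hp : Small N p) :
    ∀ n : ℕ, Small (n * N) (p ^ n) ∧ top (n * N) (p ^ n) = top N p ^ n
  | 0 => by
    rw [zero_mul, pow_zero, pow_zero]
    exact ⟨small_one, by simp [top]⟩
  | n + 1 => by
    obtain ⟨h1, h2⟩ := small_pow hp n
    rw [pow_succ, pow_succ, Nat.succ_mul]
    exact ⟨h1.mul hp, by rw [top_mul h1 hp, h2]⟩

theorem natDegree_le_of_small {N : ℕ} {p : k[X][X]} (hp : Small N p) : p.natDegree ≤ N := by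
  rcases eq_or_ne p 0 with rfl | h0
  · simp
  have h := leadingCoeff_ne_zero.mpr h0
  obtain ⟨a, ha⟩ := Polynomial.support_nonempty.mpr h
  have := hp p.natDegree a (mem_support_iff.mp ha)
  omega

theorem coeff_eq_of_small {N : ℕ} {p : k[X][X]} (hp : Small N p) : p.coeff N = C (top N p) := by
  ext a
  rw [coeff_C]
  split_ifs with ha
  · rw [ha]; rfl
  · by_contra h
    have := hp N a h
    omega

/-- The substitution `X₀ ↦ T - c Y`, `X₁ ↦ Y`. -/
noncomputable def subst (c : k) : MvPolynomial (Fin 2) k ≃ₐ[k] k[X][X] :=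
  AlgEquiv.ofAlgHom (MvPolynomial.aeval ![C X - C (C c) * X, X])
    (Polynomial.aevalTower (Polynomial.aeval
      (MvPolynomial.X (0 : Fin 2) + MvPolynomial.C c * MvPolynomial.X 1)) (MvPolynomial.X 1))
    (by
      refine Polynomial.algHom_ext' ?_ ?_
      · refine Polynomial.algHom_ext ?_
        simp [Polynomial.aevalTower, MvPolynomial.algebraMap_eq]
      · simp [Polynomial.aevalTower])
    (by
      refine MvPolynomial.algHom_ext fun i => ?_
      fin_cases i <;> simp [Polynomial.aevalTower, MvPolynomial.algebraMap_eq])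

theorem subst_apply (c : k) (f : MvPolynomial (Fin 2) k) :
    subst c f = MvPolynomial.aeval ![C X - C (C c) * X, X] f := rfl

theorem small_gen0 (c : k) : Small 1 (C X - C (C c) * X : k[X][X]) := by
  intro i a h
  rw [coeff_sub, coeff_C, coeff_C_mul, coeff_X] at h
  rcases i with _ | _ | i
  · simp only [if_true, if_neg (show ¬(1 : ℕ) = 0 by omega), mul_zero, sub_zero, coeff_X] at h
    split_ifs at h with ha
    · omega
    · exact absurd rfl h
  · simp [coeff_C] at h
    omega
  · simp at h

theorem small_gen1 : Small 1 (X : k[X][X]) := by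
  intro i a h
  rw [coeff_X] at h
  split_ifs at h with hi
  · rw [coeff_one] at h
    split_ifs at h with ha
    · omega
    · exact absurd rfl h
  · exact absurd (coeff_zero a) h

theorem top_gen0 (c : k) : top 1 (C X - C (C c) * X : k[X][X]) = -c := by
  simp [top]

theorem top_gen1 : top 1 (X : k[X][X]) = 1 := by simp [top]

theorem subst_spec (c : k) (f : MvPolynomial (Fin 2) k) :
    Small f.totalDegree (subst c f) ∧ top f.totalDegree (subst c f) =
      ∑ m ∈ f.support.filter (fun m => m 0 + m 1 = f.totalDegree), f.coeff m * (-c) ^ m 0 := by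
  classical
  set e := f.totalDegree with he
  have hle : ∀ m ∈ f.support, m 0 + m 1 ≤ e := fun m hm => by
    have := MvPolynomial.le_totalDegree hm
    rwa [Finsupp.sum_fintype _ _ (fun _ => rfl), Fin.sum_univ_two] at this
  have hterm : ∀ m : Fin 2 →₀ ℕ,
      Small (m 0 + m 1) ((C X - C (C c) * X : k[X][X]) ^ m 0 * X ^ m 1) ∧
      top (m 0 + m 1) ((C X - C (C c) * X : k[X][X]) ^ m 0 * X ^ m 1) = (-c) ^ m 0 := by
    intro m
    obtain ⟨a1, a2⟩ := small_pow (small_gen0 c) (m 0)
    obtain ⟨b1, b2⟩ := small_pow (small_gen1 (k := k)) (m 1)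
    rw [mul_one] at a1 a2 b1 b2
    exact ⟨a1.mul b1, by rw [top_mul a1 b1, a2, b2, top_gen0, top_gen1, one_pow, mul_one]⟩
  have hexp : subst c f = ∑ m ∈ f.support,
      C (C (f.coeff m)) * ((C X - C (C c) * X) ^ m 0 * X ^ m 1) := by
    rw [subst_apply, MvPolynomial.aeval_def, MvPolynomial.eval₂_eq']
    refine Finset.sum_congr rfl fun m _ => ?_
    rw [Fin.prod_univ_two]
    simp [Polynomial.algebraMap_apply]
  have hC : ∀ a : k, Small 0 (C (C a) : k[X][X]) := by
    intro a i b h
    rcases eq_or_ne i 0 with rfl | hi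
    · rw [coeff_C_zero, coeff_C] at h
      split_ifs at h with hb
      · omega
      · exact absurd rfl h
    · rw [coeff_C, if_neg hi, coeff_zero] at h
      exact absurd rfl h
  constructor
  · rw [hexp]
    refine Small.sum _ fun m hm => ((hC _).mul (hterm m).1).mono ?_
    have := hle m hm
    omega
  · rw [hexp, top, finsetSum_coeff, finsetSum_coeff, Finset.sum_filter]
    refine Finset.sum_congr rfl fun m hm => ?_
    split_ifs with hme
    · rw [coeff_C_mul, coeff_C_mul, ← (hterm m).2, hme]; rfl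
    · rw [coeff_C_mul, coeff_C_mul]
      have := hle m hm
      have h0 := top_eq_zero (hterm m).1 (show m 0 + m 1 < e by omega)
      rw [top] at h0
      rw [h0, mul_zero]

theorem finite_bad (f : MvPolynomial (Fin 2) k) (hf : f ≠ 0) :
    {c : k | top f.totalDegree (subst c f) = 0}.Finite := by
  classical
  set e := f.totalDegree
  set q : k[X] := ∑ m ∈ f.support.filter (fun m => m 0 + m 1 = e), C (f.coeff m) * (-X) ^ m 0
  have hq : q ≠ 0 := by
    obtain ⟨m, hm, hme⟩ : ∃ m ∈ f.support, e = m 0 + m 1 := by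
      obtain ⟨m, hm, h⟩ := Finset.exists_mem_eq_sup f.support
        (MvPolynomial.support_nonempty.mpr hf) (fun m => m.sum fun _ n => n)
      refine ⟨m, hm, ?_⟩
      change f.totalDegree = _
      rw [MvPolynomial.totalDegree, h, Finsupp.sum_fintype _ _ (fun _ => rfl), Fin.sum_univ_two]
    intro h0
    have h1 := congrArg (fun p : k[X] => p.coeff (m 0)) h0
    simp only [q, finsetSum_coeff, coeff_zero] at h1
    rw [Finset.sum_eq_single m] at h1
    · rw [neg_pow, ← C_1, ← C_neg, ← C_pow, ← mul_assoc, ← C_mul, coeff_C_mul, coeff_X_pow_self,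
        mul_one] at h1
      rcases mul_eq_zero.mp h1 with h | h
      · exact MvPolynomial.mem_support_iff.mp hm h
      · exact pow_ne_zero _ (neg_ne_zero.mpr one_ne_zero) h
    · intro b hb hbm
      rw [neg_pow, ← C_1, ← C_neg, ← C_pow, ← mul_assoc, ← C_mul, coeff_C_mul, coeff_X_pow,
        if_neg, mul_zero]
      intro h
      refine hbm (Finsupp.ext fun i => ?_)
      have hb2 := (Finset.mem_filter.mp hb).2
      fin_cases i
      · exact h.symm
      · change b 1 = m 1; omega
    · intro h
      exact absurd (Finset.mem_filter.mpr ⟨hm, hme.symm⟩) h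
  refine (Polynomial.finite_setOfPred_isRoot hq).subset fun c hc => ?_
  change q.IsRoot c
  rw [IsRoot.def, ← hc.out, (subst_spec c f).2]
  simp [q, eval_finsetSum]
  rfl

/-- The monic model. -/
theorem exists_monic (f : MvPolynomial (Fin 2) k) (hf : Irreducible f) (c : k)
    (hc : top f.totalDegree (subst c f) ≠ 0) :
    ∃ g : k[X][X], g.Monic ∧ g.natDegree = f.totalDegree ∧ Irreducible g ∧
      Small f.totalDegree g ∧ ∃ a : k, g = C (C a) * subst c f := by
  set e := f.totalDegree
  set p := subst c f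
  set a := (top e p)⁻¹
  obtain ⟨hs, -⟩ := subst_spec c f
  have hpirr : Irreducible p := (MulEquiv.irreducible_iff (subst c).toMulEquiv).mpr hf
  have hu : IsUnit (C (C a) : k[X][X]) :=
    isUnit_C.mpr (isUnit_C.mpr (Ne.isUnit (inv_ne_zero hc)))
  have hdeg : p.natDegree = e := le_antisymm (natDegree_le_of_small hs)
    (le_natDegree_of_ne_zero (by rw [coeff_eq_of_small hs]; simpa using hc))
  have hca : (C (C a) * p).coeff e = 1 := by
    rw [coeff_C_mul, coeff_eq_of_small hs, ← C_mul, inv_mul_cancel₀ hc, C_1]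
  have hdeg' : (C (C a) * p).natDegree = e := by
    rw [natDegree_C_mul (C_ne_zero.mpr (inv_ne_zero hc)), hdeg]
  refine ⟨C (C a) * p, ?_, hdeg', ?_, ?_, a, rfl⟩
  · rw [Monic, leadingCoeff, hdeg', hca]
  · exact (irreducible_isUnit_mul hu).mpr hpirr
  · intro i b h
    rw [coeff_C_mul, coeff_C_mul] at h
    exact hs i b (right_ne_zero_of_mul h)

end Groth.Agent.Lib.FunFld.LinSys.PlanePoly
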