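import Groth.Agent.Lib.FunFld.LinSys.Regular
import Groth.Agent.Lib.FunFld.LinSys.PlanePoly
import Groth.Agent.Lib.FunFld.LinSys.VeryAmple
import Mathlib.RingTheory.Polynomial.GaussLemma
import Mathlib.RingTheory.PowerBasis
import Mathlib.Algebra.Polynomial.Basis

/-! Plane curves: degree, genus bound. -/

namespace Groth.Agent.Lib.FunFld.LinSys.Plane

open WithZero
open Groth.Agent.Lib.FunFld.Place Groth.Agent.Lib.FunFld.Degree
open Groth.Agent.Lib.FunFld.LinSys

universe u v
variable {k : Type u} {K : Type v} [Field k] [Field K] [Algebra k K]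

local notation "Pl" => _root_.FunFld.Place k K
local notation "Dv" => _root_.FunFld.Divisor k K

theorem ord_zero (P : Pl) : P.ord (0 : K) = 0 := by rw [ord_def, map_zero]; rfl

theorem ord_one (P : Pl) : P.ord (1 : K) = 0 := by
  rw [← map_one (algebraMap k K), ord_algebraMap]

variable (k) in
/-- The span of `1, x, y`. -/
def sp (x y : K) : Submodule k K := Submodule.span k (Set.range ![(1 : K), x, y])

theorem one_le_sp (x y : K) : 1 ≤ sp k x y := by
  rw [Submodule.one_le]; exact Submodule.subset_span ⟨0, rfl⟩

variable (k) in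
/-- The monomials `h ^ i * y ^ l`, `l < e`. -/
def mono (h y : K) (e : ℕ) (p : ℕ × Fin e) : K := h ^ p.1 * y ^ (p.2 : ℕ)

variable (k) in
/-- The span of the monomials of degree at most `N`. -/
def M (h y : K) (e N : ℕ) : Submodule k K :=
  Submodule.span k (mono h y e '' {p | p.1 + (p.2 : ℕ) ≤ N})

theorem mono_mem {h y : K} {e N : ℕ} {i l : ℕ} (hl : l < e) (hN : i + l ≤ N) :
    h ^ i * y ^ l ∈ M k h y e N :=
  Submodule.subset_span ⟨(i, ⟨l, hl⟩), hN, rfl⟩

theorem M_mono {h y : K} {e N N' : ℕ} (hN : N ≤ N') : M k h y e N ≤ M k h y e N' :=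
  Submodule.span_mono (Set.image_mono fun _ hp => le_trans hp hN)

theorem aeval_mul_mem {h y : K} {e N i l : ℕ} (hl : l < e) {p : Polynomial k}
    (hp : ∀ a, p.coeff a ≠ 0 → a + i + l ≤ N) :
    Polynomial.aeval h p * (h ^ i * y ^ l) ∈ M k h y e N := by
  rw [Polynomial.aeval_eq_sum_range, Finset.sum_mul]
  refine Submodule.sum_mem _ fun a _ => ?_
  rw [smul_mul_assoc, ← mul_assoc, ← pow_add]
  rcases eq_or_ne (p.coeff a) 0 with h0 | h0
  · rw [h0, zero_smul]; exact zero_mem _
  · exact Submodule.smul_mem _ _ (mono_mem hl (hp a h0))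

theorem mul_h_mem {h y : K} {e N : ℕ} {z : K} (hz : z ∈ M k h y e N) :
    h * z ∈ M k h y e (N + 1) := by
  have : M k h y e N ≤ (M k h y e (N + 1)).comap (LinearMap.mulLeft k h) := by
    rw [M, Submodule.span_le]
    rintro _ ⟨⟨i, l⟩, hp, rfl⟩
    change h * (h ^ i * y ^ (l : ℕ)) ∈ M k h y e (N + 1)
    rw [← mul_assoc, ← pow_succ']
    exact mono_mem l.2 (by simp only [Set.mem_ofPred_eq] at hp; omega)
  exact this hz

theorem mul_y_mem {h y : K} {e N : ℕ} {g : Polynomial (Polynomial k)} (hm : g.Monic)
    (hd : g.natDegree = e) (hs : PlanePoly.Small e g)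
    (hg : Polynomial.aevalTower (Polynomial.aeval h) y g = 0) {z : K} (hz : z ∈ M k h y e N) :
    y * z ∈ M k h y e (N + 1) := by
  have : M k h y e N ≤ (M k h y e (N + 1)).comap (LinearMap.mulLeft k y) := by
    rw [M, Submodule.span_le]
    rintro _ ⟨⟨i, l⟩, hp, rfl⟩
    simp only [Set.mem_ofPred_eq] at hp
    change y * (h ^ i * y ^ (l : ℕ)) ∈ M k h y e (N + 1)
    rw [show y * (h ^ i * y ^ (l : ℕ)) = h ^ i * y ^ ((l : ℕ) + 1) by ring]
    rcases lt_or_eq_of_le (Nat.succ_le_of_lt l.2) with hl | hl
    · exact mono_mem hl (by omega)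
    · have hle : (l : ℕ) + 1 = e := hl
      rw [hle]
      conv at hg => lhs; arg 2; rw [g.as_sum_range' (e + 1) (by omega)]
      rw [map_sum, Finset.sum_range_succ] at hg
      have he : Polynomial.aevalTower (Polynomial.aeval h) y (Polynomial.monomial e (g.coeff e)) =
          y ^ e := by
        rw [show g.coeff e = 1 by rw [← hd]; exact hm.coeff_natDegree]
        simp [← Polynomial.X_pow_eq_monomial, Polynomial.aevalTower]
      rw [he] at hg
      rw [eq_neg_of_add_eq_zero_right hg, mul_neg, Finset.mul_sum]
      refine neg_mem (Submodule.sum_mem _ fun j hj => ?_)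
      rw [Finset.mem_range] at hj
      rw [show h ^ i * Polynomial.aevalTower (Polynomial.aeval h) y
          (Polynomial.monomial j (g.coeff j)) =
          Polynomial.aeval h (g.coeff j) * (h ^ i * y ^ j) by
        rw [← Polynomial.C_mul_X_pow_eq_monomial]
        simp [Polynomial.aevalTower]; ring]
      exact aeval_mul_mem hj fun a ha => by have := hs j a ha; omega
  exact this hz

theorem linearIndependent_pow_h {h : K} (ht : Transcendental k h) :
    LinearIndependent k fun n : ℕ => h ^ n := by
  rw [transcendental_iff_injective] at ht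
  have := (Polynomial.basisMonomials k).linearIndependent.map' (Polynomial.aeval h).toLinearMap
    (LinearMap.ker_eq_bot.mpr ht)
  rw [show (fun n : ℕ => h ^ n) =
    (Polynomial.aeval h).toLinearMap ∘ (Polynomial.basisMonomials k) from funext fun n => by simp]
  exact this

theorem finrank_adjoin_eq {h y : K} (ht : Transcendental k h)
    (htop : IntermediateField.adjoin k ({h, y} : Set K) = ⊤) {g : Polynomial (Polynomial k)}
    (hm : g.Monic) (hi : Irreducible g)
    (hg : Polynomial.aevalTower (Polynomial.aeval h) y g = 0) :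
    Module.finrank (IntermediateField.adjoin k ({h} : Set K)) K = g.natDegree ∧
      (minpoly (IntermediateField.adjoin k ({h} : Set K)) y).natDegree = g.natDegree := by
  set F := IntermediateField.adjoin k ({h} : Set K)
  let gh : F := ⟨h, IntermediateField.mem_adjoin_simple_self k h⟩
  let _ : Algebra (Polynomial k) F := (Polynomial.aeval gh).toRingHom.toAlgebra
  have hmap : ∀ p : Polynomial k, ((algebraMap (Polynomial k) F p : F) : K) = Polynomial.aeval h p :=
    fun p => (Polynomial.aeval_algHom_apply (IntermediateField.val F) gh p).symm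
  have : FaithfulSMul (Polynomial k) F := by
    rw [faithfulSMul_iff_algebraMap_injective]
    intro a b hab
    have := congrArg (Subtype.val : F → K) hab
    rw [hmap, hmap] at this
    exact transcendental_iff_injective.mp ht this
  have : IsFractionRing (Polynomial k) F := IsFractionRing.of_field (R := Polynomial k) (K := F) fun z => by
    obtain ⟨r, s, hrs⟩ := (IntermediateField.mem_adjoin_simple_iff k (z : K)).mp z.2
    exact ⟨r, s, Subtype.ext (by
      rw [show (((algebraMap (Polynomial k) F r) / (algebraMap (Polynomial k) F s) : F) : K) =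
        ((algebraMap (Polynomial k) F r : F) : K) / ((algebraMap (Polynomial k) F s : F) : K) from
        rfl, hmap, hmap]
      exact hrs)⟩
  have hi' := (hm.irreducible_iff_irreducible_map_fraction_map (K := F)).mp hi
  have he : Polynomial.aeval y (g.map (algebraMap (Polynomial k) F)) = 0 := by
    rw [Polynomial.aeval_def, Polynomial.eval₂_map]
    refine Eq.trans ?_ hg
    have : (algebraMap F K).comp (algebraMap (Polynomial k) F) =
        (Polynomial.aeval (R := k) h).toRingHom := RingHom.ext fun p => hmap p
    rw [this]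
    rfl
  have hmin := minpoly.eq_of_irreducible_of_monic hi' he (hm.map _)
  have hdeg : (minpoly F y).natDegree = g.natDegree := by rw [← hmin, hm.natDegree_map]
  refine ⟨?_, hdeg⟩
  have hint : IsIntegral F y := ⟨_, hm.map _, he⟩
  have htop' : IntermediateField.adjoin F ({y} : Set K) = ⊤ := by
    refine IntermediateField.restrictScalars_injective k ?_
    rw [IntermediateField.restrictScalars_top]
    exact (IntermediateField.adjoin_simple_adjoin_simple k h y).trans htop
  rw [← IntermediateField.finrank_top' (F := F) (E := K), ← htop',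
    IntermediateField.adjoin.finrank hint, hdeg]

theorem linearIndependent_mono {h y : K} (ht : Transcendental k h) {e : ℕ}
    (he : (minpoly (IntermediateField.adjoin k ({h} : Set K)) y).natDegree = e) :
    LinearIndependent k (mono h y e) := by
  subst he
  set F := IntermediateField.adjoin k ({h} : Set K)
  let gh : F := ⟨h, IntermediateField.mem_adjoin_simple_self k h⟩
  have hb : LinearIndependent k fun n : ℕ => gh ^ n :=
    LinearIndependent.of_comp (IntermediateField.val F).toLinearMap
      (by simpa [Function.comp_def, gh] using linearIndependent_pow_h ht)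
  have := linearIndependent_smul hb (linearIndependent_pow (K := F) y)
  convert this using 1
  ext ⟨i, l⟩
  simp [mono, IntermediateField.smul_def, gh]

theorem mem_of_mul_pow_mem {h y : K} {e : ℕ} (hli : LinearIndependent k (mono h y e))
    {z : K} {N M' m : ℕ} (hz : z ∈ M k h y e M') (hzm : h ^ m * z ∈ M k h y e (N + m)) :
    z ∈ M k h y e N := by
  rw [M, Finsupp.mem_span_image_iff_linearCombination] at hz hzm ⊢
  obtain ⟨c, -, rfl⟩ := hz
  obtain ⟨c', hc', heq⟩ := hzm
  let sh : ℕ × Fin e → ℕ × Fin e := fun p => (p.1 + m, p.2)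
  have hsh : Function.Injective sh := fun p q hpq => by
    simp only [sh, Prod.mk.injEq, add_left_inj] at hpq
    exact Prod.ext hpq.1 hpq.2
  have h1 : Finsupp.linearCombination k (mono h y e) (Finsupp.mapDomain sh c) =
      h ^ m * Finsupp.linearCombination k (mono h y e) c := by
    rw [Finsupp.linearCombination_mapDomain, Finsupp.linearCombination_apply,
      Finsupp.linearCombination_apply, Finsupp.mul_sum]
    refine Finset.sum_congr rfl fun p _ => ?_
    simp only [Function.comp_apply, sh, mono]
    rw [mul_smul_comm]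
    ring_nf
  have h2 : Finsupp.mapDomain sh c = c' := hli (h1.trans heq.symm)
  refine ⟨c, fun p hp => ?_, rfl⟩
  have h3 : sh p ∈ c'.support := by
    rw [← h2, Finsupp.mapDomain_support_of_injective hsh]
    exact Finset.mem_image_of_mem _ hp
  have := hc' h3
  simp only [Set.mem_ofPred_eq, sh] at this ⊢
  omega

/-- The number of monomials of degree at most `N`. -/
theorem finrank_M {h y : K} {e : ℕ} (hli : LinearIndependent k (mono h y e)) {N : ℕ}
    (hN : e ≤ N + 1) :
    2 * (Module.finrank k ↥(M k h y e N) : ℤ) + e * ((e : ℤ) - 1) = 2 * e * ((N : ℤ) + 1) := by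
  classical
  let S : Finset (ℕ × Fin e) :=
    (Finset.range (N + 1) ×ˢ Finset.univ).filter fun p => p.1 + (p.2 : ℕ) ≤ N
  have hS : {p : ℕ × Fin e | p.1 + (p.2 : ℕ) ≤ N} = ↑S := by
    ext p; simp [S]; omega
  have h1 : Module.finrank k ↥(M k h y e N) = S.card := by
    rw [M, hS, ← Finset.coe_image,
      finrank_span_finset_eq_card ?_, Finset.card_image_of_injective _ hli.injective]
    rw [Finset.coe_image]
    exact (hli.linearIndepOn (S : Set (ℕ × Fin e))).id_image
  have h2 : S.card = ∑ l : Fin e, (N + 1 - (l : ℕ)) := by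
    rw [Finset.card_filter, Finset.sum_product_right]
    refine Finset.sum_congr rfl fun l _ => ?_
    rw [← Finset.card_filter, show (Finset.range (N + 1)).filter (fun i => i + (l : ℕ) ≤ N) =
      Finset.range (N + 1 - (l : ℕ)) by ext i; simp; omega, Finset.card_range]
  rw [h1, h2, Fin.sum_univ_eq_sum_range (fun l => N + 1 - l) e]
  clear h1 h2 hS hli S
  induction e with
  | zero => simp
  | succ e ih =>
    rw [Finset.sum_range_succ]
    have := ih (by omega)
    push_cast [Nat.cast_sub (show e ≤ N + 1 by omega)]
    push_cast at this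
    linarith

theorem sp_pow_eq (x y : K) (c : k) {e : ℕ} {g : Polynomial (Polynomial k)} (hgm : g.Monic)
    (hgd : g.natDegree = e) (hgs : PlanePoly.Small e g)
    (hev : Polynomial.aevalTower (Polynomial.aeval (x + algebraMap k K c * y)) y g = 0)
    (he1 : 1 ≤ e) (N : ℕ) :
    sp k x y ^ N = M k (x + algebraMap k K c * y) y e N := by
  set h := x + algebraMap k K c * y with hhdef
  refine le_antisymm ?_ ?_
  · induction N with
    | zero =>
      rw [pow_zero, Submodule.one_le]
      simpa using mono_mem (k := k) (h := h) (y := y) (i := 0) (l := 0) he1 le_rfl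
    | succ N ih =>
      rw [pow_succ]
      refine Submodule.mul_le.mpr fun z hz' w hw => ?_
      have hz : z ∈ M k h y e N := ih hz'
      clear hz' ih
      induction hw using Submodule.span_induction with
      | mem w hw =>
        obtain ⟨i, rfl⟩ := hw
        fin_cases i
        · simpa using M_mono (Nat.le_succ N) hz
        · have := sub_mem (mul_h_mem hz)
            (Submodule.smul_mem _ c (mul_y_mem hgm hgd hgs hev hz))
          rw [show h * z - c • (y * z) = z * x by rw [hhdef, Algebra.smul_def]; ring] at this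
          exact this
        · simpa [mul_comm] using mul_y_mem hgm hgd hgs hev hz
      | zero => simp
      | add w w' _ _ h1 h2 => rw [mul_add]; exact add_mem h1 h2
      | smul a w _ h1 => rw [mul_smul_comm]; exact Submodule.smul_mem _ a h1
  · rw [M, Submodule.span_le]
    rintro _ ⟨⟨i, l⟩, hp, rfl⟩
    simp only [Set.mem_ofPred_eq] at hp
    have hyV : y ∈ sp k x y := Submodule.subset_span ⟨2, rfl⟩
    have hhV : h ∈ sp k x y := by
      rw [hhdef, ← Algebra.smul_def]
      exact add_mem (Submodule.subset_span ⟨1, rfl⟩) (Submodule.smul_mem _ c hyV)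
    have h1 : mono h y e (i, l) ∈ sp k x y ^ (i + (l : ℕ)) := by
      rw [pow_add]
      exact Submodule.mul_mem_mul (Submodule.pow_mem_pow _ hhV i) (Submodule.pow_mem_pow _ hyV _)
    exact pow_le_pow_right' (one_le_sp x y) hp h1

/-- Monic models of a plane curve. -/
theorem exists_model [IsAlgClosed k] (hK : FunFld.IsFunctionField k K) (x y : K)
    (hxy : IntermediateField.adjoin k ({x, y} : Set K) = ⊤) (f : MvPolynomial (Fin 2) k)
    (hf : Irreducible f) (hfxy : MvPolynomial.aeval ![x, y] f = 0) :
    ∃ c : k, (_root_.FunFld.mapDiv k ![(1 : K), x, y]).deg = f.totalDegree ∧ 1 ≤ f.totalDegree ∧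
      LinearIndependent k (mono (x + algebraMap k K c * y) y f.totalDegree) ∧
      ∀ N, sp k x y ^ N = M k (x + algebraMap k K c * y) y f.totalDegree N := by
  classical
  set D := _root_.FunFld.mapDiv k ![(1 : K), x, y] with hDdef
  have hD : ∀ P : Pl, D P = -min 0 (min (P.ord x) (P.ord y)) := fun P => by
    rw [hDdef, MapDiv.mapDiv_apply hK.1]
    congr 1
    refine le_antisymm (le_min ?_ (le_min ?_ ?_)) (Finset.le_inf' _ _ fun i _ => ?_)
    · exact (Finset.inf'_le _ (Finset.mem_univ (0 : Fin 3))).trans_eq (ord_one P)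
    · exact Finset.inf'_le _ (Finset.mem_univ (1 : Fin 3))
    · exact Finset.inf'_le _ (Finset.mem_univ (2 : Fin 3))
    · fin_cases i <;> simp [ord_one]
  have hD0 : 0 ≤ D := Finsupp.le_def.mpr fun P => by
    rw [hD]; simp only [Finsupp.coe_zero, Pi.zero_apply]; omega
  obtain ⟨P₀, hP₀⟩ : ∃ P : Pl, D P ≠ 0 := by
    by_contra hc
    simp only [not_exists, not_not] at hc
    obtain ⟨t, ht⟩ := Riemann.exists_transcendental hK
    have hbot : IntermediateField.adjoin k ({x, y} : Set K) = ⊥ := by
      rw [eq_bot_iff, IntermediateField.adjoin_le_iff]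
      intro z hz
      have hmem : z ∈ _root_.FunFld.L (0 : Dv) := Conductor.mem_L_iff_of_le.mpr (Or.inr fun P => by
        have h1 := hc P
        rw [hD] at h1
        rcases hz with rfl | rfl <;> simp only [Finsupp.coe_zero, Pi.zero_apply] <;> omega)
      rw [L_zero hK, Submodule.mem_one] at hmem
      exact IntermediateField.mem_bot.mpr hmem
    rw [hbot] at hxy
    have ht' : t ∈ (⊥ : IntermediateField k K) := hxy ▸ IntermediateField.mem_top
    exact Bound.not_mem_range_of_transcendental ht (IntermediateField.mem_bot.mp ht')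
  have hbad : ∀ P ∈ D.support,
      {c : k | P.1 (x + algebraMap k K c * y) < exp (D P)}.Subsingleton := by
    intro P hP c hc c' hc'
    by_contra hne
    have hDP : 0 < D P := by
      have := Finsupp.le_def.mp hD0 P
      rw [Finsupp.mem_support_iff] at hP
      simp only [Finsupp.coe_zero, Pi.zero_apply] at this; omega
    have hy : P.1 y < exp (D P) := by
      have h1 : P.1 (algebraMap k K (c - c') * y) < exp (D P) := by
        have h2 := P.1.map_sub (x + algebraMap k K c * y) (x + algebraMap k K c' * y)
        rw [show x + algebraMap k K c * y - (x + algebraMap k K c' * y) =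
          algebraMap k K (c - c') * y by rw [map_sub]; ring] at h2
        exact h2.trans_lt (max_lt hc hc')
      rwa [map_mul, val_algebraMap _ (sub_ne_zero.mpr hne), one_mul] at h1
    have hx : P.1 x < exp (D P) := by
      have h2 := P.1.map_sub (x + algebraMap k K c * y) (algebraMap k K c * y)
      rw [add_sub_cancel_right] at h2
      refine h2.trans_lt (max_lt hc ?_)
      rw [map_mul]
      exact (mul_le_of_le_one_left' (val_algebraMap_le P c)).trans_lt hy
    have hord : ∀ z : K, P.1 z < exp (D P) → -D P < P.ord z := fun z hz => by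
      rcases eq_or_ne z 0 with rfl | hz0
      · rw [ord_zero]; omega
      · rw [val_eq_exp P hz0, exp_lt_exp] at hz; omega
    have := hord x hx
    have := hord y hy
    have := hD P
    omega
  obtain ⟨c, hc⟩ := (((Finset.finite_toSet D.support).biUnion fun P hP =>
    (hbad P hP).finite).union (PlanePoly.finite_bad f hf.ne_zero)).exists_notMem
  simp only [Set.mem_union, Set.mem_iUnion, not_or, not_exists, Set.mem_ofPred_eq, not_lt] at hc
  obtain ⟨hc1, hc2⟩ := hc
  set h := x + algebraMap k K c * y with hhdef
  set e := f.totalDegree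
  have hexact : ∀ R : Pl, D R ≠ 0 → R.ord h = -D R := by
    intro R hR
    have h1 := hc1 R (Finsupp.mem_support_iff.mpr hR)
    have h2 : R.1 h ≤ exp (D R) := by
      refine R.1.map_add_le ?_ ?_
      · rw [val_le_exp_iff]; exact Or.inr (by rw [hD]; omega)
      · rw [map_mul]
        refine (mul_le_of_le_one_left' (val_algebraMap_le R c)).trans ?_
        rw [val_le_exp_iff]; exact Or.inr (by rw [hD]; omega)
    exact ord_eq_of_val_eq_exp R (le_antisymm h2 h1) |>.trans (by omega)
  have hreg : ∀ R : Pl, D R = 0 → 0 ≤ R.ord h := by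
    intro R hR
    have hx : R.1 x ≤ 1 := (val_le_one_iff R).mpr (by rw [hD] at hR; omega)
    have hy : R.1 y ≤ 1 := (val_le_one_iff R).mpr (by rw [hD] at hR; omega)
    exact (val_le_one_iff R).mp (R.1.map_add_le hx (by
      rw [map_mul]; exact mul_le_one' (val_algebraMap_le R c) hy))
  have hDdeg : 0 < D.deg := by
    have h1 : Finsupp.single P₀ (1 : ℤ) ≤ D := Finsupp.le_def.mpr fun R => by
      have hR0 := Finsupp.le_def.mp hD0 R
      rcases eq_or_ne R P₀ with rfl | hR
      · simp only [Finsupp.coe_zero, Pi.zero_apply] at hR0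
        rw [Finsupp.single_eq_same]; omega
      · rw [Finsupp.single_eq_of_ne hR]; exact hR0
    have h2 := deg_mono h1
    rw [deg_single, Rational.deg_eq_one hK] at h2
    push_cast at h2
    omega
  have ht : Transcendental k h := Existence.transcendental_of_ord_ne_zero hK P₀ (by
    rw [hexact P₀ hP₀]; omega)
  have htop : IntermediateField.adjoin k ({h, y} : Set K) = ⊤ := by
    rw [← top_le_iff, ← hxy, IntermediateField.adjoin_le_iff]
    rintro z (rfl | rfl)
    · have h1 : h ∈ IntermediateField.adjoin k ({h, y} : Set K) :=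
        IntermediateField.subset_adjoin k _ (by simp)
      have h2 : y ∈ IntermediateField.adjoin k ({h, y} : Set K) :=
        IntermediateField.subset_adjoin k _ (by simp)
      have := sub_mem h1 (mul_mem (IntermediateField.algebraMap_mem _ c) h2)
      simpa [hhdef] using this
    · exact IntermediateField.subset_adjoin k _ (by simp)
  obtain ⟨g, hgm, hgd, hgi, hgs, a, hga⟩ := PlanePoly.exists_monic f hf c hc2
  have hev : Polynomial.aevalTower (Polynomial.aeval h) y g = 0 := by
    have h1 : (Polynomial.aevalTower (Polynomial.aeval h) y).comp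
        (PlanePoly.subst c).toAlgHom = MvPolynomial.aeval ![x, y] :=
      MvPolynomial.algHom_ext fun i => by
        fin_cases i <;> simp [PlanePoly.subst_apply, Polynomial.aevalTower, hhdef]
    have h2 : Polynomial.aevalTower (Polynomial.aeval h) y (PlanePoly.subst c f) = 0 := by
      rw [← hfxy, ← h1]; rfl
    rw [hga, map_mul, h2, mul_zero]
  obtain ⟨hfin, hmin⟩ := finrank_adjoin_eq ht htop hgm hgi hev
  have hdeg := VeryAmple.finrank_of_poleDiv hK hD0 hDdeg hexact hreg
  rw [hfin, hgd] at hdeg
  have he1 : 1 ≤ e := by omega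
  exact ⟨c, hdeg, he1, linearIndependent_mono ht (hmin.trans hgd),
    sp_pow_eq x y c hgm hgd hgs hev he1⟩

theorem pow_sp_le_L [IsAlgClosed k] (hK : FunFld.IsFunctionField k K) (x y : K) (N : ℕ) :
    sp k x y ^ N ≤ _root_.FunFld.L ((N : ℤ) • _root_.FunFld.mapDiv k ![(1 : K), x, y]) := by
  induction N with
  | zero =>
    rw [pow_zero, Nat.cast_zero, zero_smul, L_zero hK]
  | succ N ih =>
    rw [pow_succ]
    refine Submodule.mul_le.mpr fun a ha b hb => ?_
    rcases eq_or_ne (a * b) 0 with h0 | h0
    · rw [h0]; exact zero_mem _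
    refine Conductor.mem_L_iff_of_le.mpr (Or.inr fun P => ?_)
    have h1 := (Conductor.mem_L_iff_of_le.mp (ih ha)).resolve_left (left_ne_zero_of_mul h0) P
    have h2 := (Conductor.mem_L_iff_of_le.mp (VeryAmple.span_le_L hK hb)).resolve_left
      (right_ne_zero_of_mul h0) P
    rw [ord_mul P (left_ne_zero_of_mul h0) (right_ne_zero_of_mul h0)]
    simp only [Finsupp.smul_apply, smul_eq_mul, Nat.cast_succ, add_mul, one_mul] at h1 ⊢
    omega

end Groth.Agent.Lib.FunFld.LinSys.Plane
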