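import Groth.Agent.Lib.FunFld.LinSys.Nonsingular
import Mathlib.Algebra.Algebra.Operations

/-! Regular functions on a chart. -/

namespace Groth.Agent.Lib.FunFld.LinSys.Regular

open WithZero
open Groth.Agent.Lib.FunFld.Place Groth.Agent.Lib.FunFld.Degree
open Groth.Agent.Lib.FunFld.LinSys

universe u v w
variable {k : Type u} {K : Type v} [Field k] [Field K] [Algebra k K] {ι : Type w} {φ : ι → K}

local notation "Pl" => _root_.FunFld.Place k K
local notation "Dv" => _root_.FunFld.Divisor k K

theorem exists_mul_pow_mem {j : ι} (hj : φ j ≠ 0) {a : K} (ha : a ∈ Chart.ring k φ j) :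
    ∃ m : ℕ, a * φ j ^ m ∈ Submodule.span k (Set.range φ) ^ m := by
  set V := Submodule.span k (Set.range φ)
  have hjV : φ j ∈ V := Submodule.subset_span ⟨j, rfl⟩
  induction ha using Algebra.adjoin_induction with
  | mem x hx =>
    obtain ⟨i, rfl⟩ := hx
    exact ⟨1, by rw [pow_one, pow_one, div_mul_cancel₀ _ hj]; exact Submodule.subset_span ⟨i, rfl⟩⟩
  | algebraMap c =>
    exact ⟨0, by rw [pow_zero, pow_zero, mul_one, Submodule.one_eq_range]; exact ⟨c, rfl⟩⟩
  | add x y _ _ h1 h2 =>
    obtain ⟨m, hm⟩ := h1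
    obtain ⟨l, hl⟩ := h2
    refine ⟨m + l, ?_⟩
    rw [add_mul, pow_add (φ j)]
    refine add_mem ?_ ?_
    · rw [← mul_assoc, pow_add V]; exact Submodule.mul_mem_mul hm (Submodule.pow_mem_pow V hjV l)
    · rw [mul_comm (φ j ^ m), ← mul_assoc, add_comm, pow_add V]
      exact Submodule.mul_mem_mul hl (Submodule.pow_mem_pow V hjV m)
  | mul x y _ _ h1 h2 =>
    obtain ⟨m, hm⟩ := h1
    obtain ⟨l, hl⟩ := h2
    refine ⟨m + l, ?_⟩
    rw [show x * y * φ j ^ (m + l) = x * φ j ^ m * (y * φ j ^ l) by ring, pow_add V]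
    exact Submodule.mul_mem_mul hm hl

theorem div_pow_mem_ring {j : ι} : ∀ {N : ℕ} {v : K},
    v ∈ Submodule.span k (Set.range φ) ^ N → v / φ j ^ N ∈ Chart.ring k φ j
  | 0, v, hv => by
    rw [pow_zero, Submodule.one_eq_range] at hv
    obtain ⟨c, rfl⟩ := hv
    rw [pow_zero, div_one]
    exact (Chart.ring k φ j).algebraMap_mem c
  | N + 1, v, hv => by
    rw [pow_succ] at hv
    induction hv using Submodule.mul_induction_on' with
    | mem_mul_mem a ha b hb =>
      rw [pow_succ, ← div_mul_div_comm]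
      refine mul_mem (div_pow_mem_ring ha) ?_
      induction hb using Submodule.span_induction with
      | mem x hx => obtain ⟨i, rfl⟩ := hx; exact Chart.ratio_mem φ i j
      | zero => simp
      | add x y _ _ hx hy => rw [add_div]; exact add_mem hx hy
      | smul c x _ hx => rw [smul_div_assoc]; exact Subalgebra.smul_mem _ hx c
    | add a _ b _ ha hb => rw [add_div]; exact add_mem ha hb

variable [IsAlgClosed k]

/-- On a nonsingular chart every regular function lies in the coordinate ring. -/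
theorem mem_ring (hK : FunFld.IsFunctionField k K) {j : ι}
    (htop : IntermediateField.adjoin k (Set.range fun i => φ i / φ j) = ⊤) (hj0 : φ j ≠ 0)
    (hns : ∀ P : Pl, Chart.IsMax φ j P → _root_.FunFld.IsNonsingularAt φ P)
    {b : K} (hb : ∀ P : Pl, Chart.IsMax φ j P → P.1 b ≤ 1) : b ∈ Chart.ring k φ j := by
  let I : Ideal (Chart.ring k φ j) :=
    { carrier := {a | (a : K) * b ∈ Chart.ring k φ j}
      add_mem' := fun {a c} ha hc => by
        change ((a + c : Chart.ring k φ j) : K) * b ∈ Chart.ring k φ j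
        rw [Subalgebra.coe_add, add_mul]; exact add_mem ha hc
      zero_mem' := by
        change ((0 : Chart.ring k φ j) : K) * b ∈ Chart.ring k φ j
        rw [ZeroMemClass.coe_zero, zero_mul]; exact zero_mem _
      smul_mem' := fun r a ha => by
        change ((r * a : Chart.ring k φ j) : K) * b ∈ Chart.ring k φ j
        rw [Subalgebra.coe_mul, mul_assoc]; exact mul_mem r.2 ha }
  by_contra hbn
  have hI : I ≠ ⊤ := fun h => hbn (by
    have h1 : (1 : Chart.ring k φ j) ∈ I := h ▸ Submodule.mem_top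
    simpa [I] using h1)
  have hI0 : I ≠ ⊥ := by
    obtain ⟨c, hc, hc0, hcb⟩ := Conductor.exists_denominator htop b
    intro h
    have hcI : (⟨c, hc⟩ : Chart.ring k φ j) ∈ I := hcb
    rw [h, Submodule.mem_bot] at hcI
    exact hc0 (congrArg Subtype.val hcI)
  obtain ⟨P, hPA, hPI⟩ := Existence.exists_place_nonunits hK _ I hI hI0
  have hP : Chart.IsMax φ j P :=
    (Chart.isMax_iff hj0).mpr fun i => hPA _ (Chart.ratio_mem φ i j)
  obtain ⟨u, hu, w, hw, hw1, hbw⟩ := (Chart.mem_locRing_iff hP b).mp (hns P hP b (hb P hP))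
  have hwI : (⟨w, hw⟩ : Chart.ring k φ j) ∈ I := by
    change w * b ∈ Chart.ring k φ j
    rw [mul_comm, hbw]; exact hu
  exact absurd hw1 (hPI ⟨w, hw⟩ hwI).ne

/-- If the coordinate ring is the ring of regular functions, the chart is nonsingular. -/
theorem nonsingular [Fintype ι] (hK : FunFld.IsFunctionField k K) {j : ι}
    (htop : IntermediateField.adjoin k (Set.range fun i => φ i / φ j) = ⊤) {P : Pl}
    (hP : Chart.IsMax φ j P)
    (hreg : ∀ b : K, (∀ Q : Pl, Chart.IsMax φ j Q → Q.1 b ≤ 1) → b ∈ Chart.ring k φ j) :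
    _root_.FunFld.IsNonsingularAt φ P := by
  classical
  obtain ⟨R, hR⟩ : ∃ R : Pl, ¬ Chart.IsMax φ j R := by
    by_contra hall
    simp only [not_exists, not_not] at hall
    obtain ⟨y, hy⟩ := Riemann.exists_transcendental hK
    have hbot : IntermediateField.adjoin k (Set.range fun i => φ i / φ j) = ⊥ := by
      rw [eq_bot_iff, IntermediateField.adjoin_le_iff]
      rintro _ ⟨i, rfl⟩
      have hmem : φ i / φ j ∈ _root_.FunFld.L (0 : Dv) := fun Q => by
        simpa using Chart.val_ratio_le (hall Q) i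
      rw [L_zero hK, Submodule.mem_one] at hmem
      exact IntermediateField.mem_bot.mpr hmem
    have hy' : y ∈ (⊥ : IntermediateField k K) := hbot ▸ htop.symm ▸ IntermediateField.mem_top
    exact Bound.not_mem_range_of_transcendental hy (IntermediateField.mem_bot.mp hy')
  intro z hz
  set Bad := (Degree.finite_support_ord hK z).toFinset.filter
    fun Q => Chart.IsMax φ j Q ∧ Q ≠ P
  let E : Dv := ∑ Q ∈ Bad, Finsupp.single Q ((-Q.ord z).toNat : ℤ)
  have hne : ∀ Q : Pl, Chart.IsMax φ j Q → Q ≠ R := fun Q h e => hR (e ▸ h)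
  have hEP : E P = 0 := by
    simp only [E, Finsupp.finsetSum_apply]
    exact Finset.sum_eq_zero fun Q hQ =>
      Finsupp.single_eq_of_ne (Finset.mem_filter.mp hQ).2.2.symm
  have hE : ∀ Q : Pl, E Q = if Q ∈ Bad then ((-Q.ord z).toNat : ℤ) else 0 := by
    intro Q
    simp only [E, Finsupp.finsetSum_apply]
    split_ifs with h
    · rw [Finset.sum_eq_single Q (fun S _ hS => Finsupp.single_eq_of_ne (Ne.symm hS))
        (fun h' => absurd h h'), Finsupp.single_eq_same]
    · exact Finset.sum_eq_zero fun S hS => Finsupp.single_eq_of_ne fun e => h (e ▸ hS)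
  obtain ⟨n, w, hw, hw'⟩ := Nonsingular.exists_regular hK R P E
  have hw0 : w ≠ 0 := fun h => hw' (h ▸ zero_mem _)
  have hwQ := (Conductor.mem_L_iff_of_le.mp hw).resolve_left hw0
  have hwP : P.ord w = 0 := by
    have h1 := hwQ P
    rw [Finsupp.sub_apply, Finsupp.single_eq_of_ne (hne P hP), hEP] at h1
    by_contra hne'
    refine hw' (Conductor.mem_L_iff_of_le.mpr (Or.inr fun Q => ?_))
    rcases eq_or_ne Q P with rfl | hQ
    · simp only [Finsupp.sub_apply, Finsupp.single_eq_same, Finsupp.single_eq_of_ne (hne Q hP), hEP]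
      omega
    · have := hwQ Q
      simpa [Finsupp.single_eq_of_ne hQ] using this
  have hreg' : ∀ Q : Pl, Chart.IsMax φ j Q → Q.1 w ≤ 1 ∧ Q.1 (z * w) ≤ 1 := by
    intro Q hQ
    have h1 := hwQ Q
    rw [Finsupp.sub_apply, Finsupp.single_eq_of_ne (hne Q hQ), hE] at h1
    refine ⟨(val_le_one_iff Q).mpr (by split_ifs at h1 <;> omega), ?_⟩
    rcases eq_or_ne z 0 with rfl | hz0
    · simp
    rw [val_le_one_iff, ord_mul Q hz0 hw0]
    rcases eq_or_ne Q P with rfl | hQP
    · have := (val_le_one_iff Q).mp hz; omega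
    · split_ifs at h1 with hb
      · omega
      · have : ¬ Q.ord z ≠ 0 := fun h => hb (Finset.mem_filter.mpr
          ⟨(Degree.finite_support_ord hK z).mem_toFinset.mpr h, hQ, hQP⟩)
        omega
  exact (Chart.mem_locRing_iff hP z).mpr ⟨_, hreg _ fun Q hQ => (hreg' Q hQ).2, w,
    hreg _ fun Q hQ => (hreg' Q hQ).1,
    by rw [val_eq_exp P hw0, hwP, neg_zero, exp_zero], rfl⟩

end Groth.Agent.Lib.FunFld.LinSys.Regular
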